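import Cfsg.Agent.Lib.JanOrder.Bounds
import Cfsg.Agent.Lib.CharApps.SignedTriples

/-!
# The rows of the characters at the involution section
-/

set_option autoImplicit false

namespace CfsgLib.JanOrder

variable {ι : Type*} [Fintype ι]

/-- The value at the involution. -/
def rowVal (c0 c1 c2 w : ι → ℤ) (i : ι) : ℤ := c0 i - 3 * (c1 i + c2 i) + 4 * w i

/-- The numerical data of the rows. -/
structure Rows (p : ι) (c0 c1 c2 w d : ι → ℤ) (g : ℤ) : Prop where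
  h00 : ∑ i, c0 i * c0 i = 4
  h11 : ∑ i, c1 i * c1 i = 4
  h22 : ∑ i, c2 i * c2 i = 4
  h01 : ∑ i, c0 i * c1 i = 2
  h02 : ∑ i, c0 i * c2 i = 2
  h12 : ∑ i, c1 i * c2 i = 2
  hww : ∑ i, w i * w i = 2
  hw0 : ∑ i, w i * c0 i = 0
  hw1 : ∑ i, w i * c1 i = 0
  hw2 : ∑ i, w i * c2 i = 0
  hp : c0 p = 1 ∧ c1 p = 0 ∧ c2 p = 0 ∧ w p = 0
  hd1 : d p = 1
  hd : ∀ i, 0 < d i
  e0 : ∑ i, c0 i * d i = 0
  e1 : ∑ i, c1 i * d i = 0
  e2 : ∑ i, c2 i * d i = 0
  ew : ∑ i, w i * d i = 0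
  val : ∀ i, i ≠ p → (c0 i ≠ 0 ∨ c1 i ≠ 0 ∨ c2 i ≠ 0) →
    (d i - rowVal c0 c1 c2 w i) % 8 = 0 ∧ 0 ≤ d i + 7 * rowVal c0 c1 c2 w i ∧
      d i ≠ rowVal c0 c1 c2 w i ∧ d i * d i < g
  T0 : (∑ i, ((rowVal c0 c1 c2 w i ^ 2 * c0 i : ℤ) : ℝ) / (d i : ℝ)) * g = 86400
  T1 : (∑ i, ((rowVal c0 c1 c2 w i ^ 2 * c1 i : ℤ) : ℝ) / (d i : ℝ)) * g = -57600
  T2 : (∑ i, ((rowVal c0 c1 c2 w i ^ 2 * c2 i : ℤ) : ℝ) / (d i : ℝ)) * g = -57600
  g840 : g % 840 = 0

/-- The rows of the exceptional solution, of degrees `21`, `35` and `15`. -/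
def Exceptional (p : ι) (c0 c1 c2 w d : ι → ℤ) : Prop :=
  ∃ a b z, (a ≠ b ∧ a ≠ z ∧ b ≠ z ∧ a ≠ p ∧ b ≠ p ∧ z ≠ p) ∧
    (∀ i, c0 i ≠ 0 → i = p ∨ i = a ∨ i = b ∨ i = z) ∧
    (c0 a = -1 ∧ c1 a + c2 a = -2 ∧ w a = 0 ∧ d a = 21) ∧
    (c0 b = 1 ∧ c1 b + c2 b = 2 ∧ w b = 0 ∧ d b = 35) ∧
    (c0 z = -1 ∧ c1 z + c2 z = 0 ∧ w z = 0 ∧ d z = 15)

/-- A vector of norm at most four orthogonal to the degrees has small entries. -/
theorem abs_le_one {c d : ι → ℤ} (h : ∑ i, c i * c i ≤ 4) (he : ∑ i, c i * d i = 0)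
    (hd : ∀ i, 0 < d i) (i : ι) : c i = 0 ∨ c i = 1 ∨ c i = -1 := by
  classical
  by_contra hne
  push Not at hne
  have h4 : 4 ≤ c i * c i := by
    rcases le_or_gt (c i) 0 with h' | h'
    · have : c i ≤ -2 := by omega
      nlinarith
    · have : 2 ≤ c i := by omega
      nlinarith
  rw [← Finset.add_sum_erase _ _ (Finset.mem_univ i)] at h he
  have hnn : ∀ j ∈ Finset.univ.erase i, 0 ≤ c j * c j := fun j _ => mul_self_nonneg _
  have h0 : ∑ j ∈ Finset.univ.erase i, c j * c j = 0 := by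
    have := Finset.sum_nonneg hnn
    linarith
  have hz : ∀ j ∈ Finset.univ.erase i, c j * d j = 0 := fun j hj => by
    rw [mul_self_eq_zero.1 ((Finset.sum_eq_zero_iff_of_nonneg hnn).1 h0 j hj), zero_mul]
  rw [Finset.sum_eq_zero hz, add_zero, mul_eq_zero] at he
  rcases he with he | he
  · exact hne.1 he
  · exact (hd i).ne' he

theorem mul_self_of {x : ℤ} (h : x = 0 ∨ x = 1 ∨ x = -1) (hx : x ≠ 0) : x * x = 1 := by
  rcases h with h | h | h <;> simp_all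

/-- The support of a small vector. -/
theorem card_supp [DecidableEq ι] {c : ι → ℤ} (h : ∀ i, c i = 0 ∨ c i = 1 ∨ c i = -1) :
    ((Finset.univ.filter fun i => c i ≠ 0).card : ℤ) = ∑ i, c i * c i := by
  rw [Finset.card_eq_sum_ones, Nat.cast_sum, Finset.sum_filter]
  refine Finset.sum_congr rfl fun i _ => ?_
  rcases h i with h | h | h <;> simp [h]

theorem sum_four [DecidableEq ι] {M : Type*} [AddCommMonoid M] {a b c e : ι} (hab : a ≠ b) (hac : a ≠ c)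
    (hae : a ≠ e) (hbc : b ≠ c) (hbe : b ≠ e) (hce : c ≠ e) (f : ι → M)
    (hf : ∀ i, f i ≠ 0 → i = a ∨ i = b ∨ i = c ∨ i = e) : ∑ i, f i = f a + f b + f c + f e := by
  rw [← Finset.sum_subset (Finset.subset_univ {a, b, c, e}) fun i _ hi => by
    by_contra h
    rcases hf i h with rfl | rfl | rfl | rfl <;> simp at hi]
  rw [Finset.sum_insert (by simp [hab, hac, hae]), Finset.sum_insert (by simp [hbc, hbe]),
    Finset.sum_insert (by simp [hce]), Finset.sum_singleton]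
  simp only [add_assoc]

/-- A signed row. -/
theorem term_div {a e d : ℤ} (he : e = 1 ∨ e = -1) :
    ((a ^ 2 * e : ℤ) : ℝ) / (d : ℝ) = ((a ^ 2 : ℤ) : ℝ) / ((e * d : ℤ) : ℝ) := by
  rcases he with rfl | rfl
  · simp
  · push_cast
    ring

theorem signedDeg {g a d e : ℤ} (he : e = 1 ∨ e = -1) (hd : 0 < d)
    (h : (d - a) % 8 = 0 ∧ 0 ≤ d + 7 * a ∧ d ≠ a ∧ d * d < g) : SignedDeg g (e * a) (e * d) := by
  obtain ⟨h1, h2, h3, h4⟩ := h
  have hee : e * e = 1 := by rcases he with rfl | rfl <;> rfl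
  refine ⟨?_, ?_, ?_, ?_, ?_⟩
  · rcases he with rfl | rfl <;> omega
  · rcases he with rfl | rfl <;> omega
  · rcases he with rfl | rfl <;> omega
  · have : e * d * (e * d + 7 * (e * a)) = d * (d + 7 * a) := by linear_combination (d * (d + 7 * a)) * hee
    rw [this]
    exact mul_nonneg hd.le h2
  · have : e * d * (e * d) = d * d := by linear_combination (d * d) * hee
    rw [this]
    exact h4

/-- One common unit among two. -/
theorem one_of_sum {f1 f2 f3 f4 : ℤ} (h1 : f1 = 1 ∨ f1 = -1) (h2 : f2 = 1 ∨ f2 = -1)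
    (h3 : f3 = 0 ∨ f3 = 1 ∨ f3 = -1) (h4 : f4 = 0 ∨ f4 = 1 ∨ f4 = -1)
    (h : f1 * f3 + f2 * f4 = 1) : (f3 = f1 ∧ f4 = 0) ∨ (f4 = f2 ∧ f3 = 0) := by
  rcases h1 with rfl | rfl <;> rcases h2 with rfl | rfl <;> omega

/-- Two opposite products give two equal and two opposite units. -/
theorem opposite {f1 f2 f3 f4 x y : ℤ} (h1 : f1 = 1 ∨ f1 = -1) (h2 : f2 = 1 ∨ f2 = -1)
    (h3 : f3 = 1 ∨ f3 = -1) (h4 : f4 = 1 ∨ f4 = -1) (h : f1 * f3 + f2 * f4 = 0) (hx : 0 < x)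
    (hy : 0 < y) (he : f1 * x + f2 * y = f3 * x + f4 * y) : False := by
  rcases h1 with rfl | rfl <;> rcases h2 with rfl | rfl <;> rcases h3 with rfl | rfl <;>
    rcases h4 with rfl | rfl <;> omega

theorem perm34 {A B C D : Prop} : (A ∨ B ∨ C ∨ D) ↔ (A ∨ B ∨ D ∨ C) := by tauto

theorem perm23 {A B C D : Prop} : (A ∨ B ∨ C ∨ D) ↔ (A ∨ C ∨ B ∨ D) := by tauto

theorem perm12 {A B C D : Prop} : (A ∨ B ∨ C ∨ D) ↔ (B ∨ A ∨ C ∨ D) := by tauto

namespace Rows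

variable {p : ι} {c0 c1 c2 w d : ι → ℤ} {g : ℤ}

theorem swap (h : Rows p c0 c1 c2 w d g) : Rows p c0 c2 c1 w d g := by
  have e : rowVal c0 c2 c1 w = rowVal c0 c1 c2 w := funext fun i => by simp [rowVal, add_comm]
  exact ⟨h.h00, h.h22, h.h11, h.h02, h.h01, by rw [← h.h12]; simp only [mul_comm], h.hww, h.hw0,
    h.hw2, h.hw1, ⟨h.hp.1, h.hp.2.2.1, h.hp.2.1, h.hp.2.2.2⟩, h.hd1, h.hd, h.e0, h.e2, h.e1, h.ew,
    fun i hi hc => by rw [e]; exact h.val i hi (by tauto), by rw [e]; exact h.T0,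
    by rw [e]; exact h.T2, by rw [e]; exact h.T1, h.g840⟩

/-- The partner of a row with nonzero last entry. -/
theorem twin (h : Rows p c0 c1 c2 w d g) {i : ι} (hi : w i ≠ 0) :
    ∃ j, j ≠ i ∧ w j = -w i ∧ d j = d i ∧ c0 j = c0 i ∧ c1 j = c1 i ∧ c2 j = c2 i ∧
      ∀ k, w k ≠ 0 → k = i ∨ k = j := by
  classical
  have hs := abs_le_one (by rw [h.hww]; norm_num) h.ew h.hd
  set W := Finset.univ.filter fun k => w k ≠ 0 with hW
  have h2 : W.card = 2 := by exact_mod_cast (card_supp hs).trans h.hww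
  have hiW : i ∈ W := by simp [hW, hi]
  obtain ⟨j, hj⟩ : ∃ j, W.erase i = {j} :=
    Finset.card_eq_one.1 (by rw [Finset.card_erase_of_mem hiW, h2])
  have hjW : j ∈ W.erase i := by simp [hj]
  have hji : j ≠ i := Finset.ne_of_mem_erase hjW
  have honly : ∀ k, w k ≠ 0 → k = i ∨ k = j := fun k hk => by
    by_cases hki : k = i
    · exact Or.inl hki
    · exact Or.inr (Finset.mem_singleton.1 (hj ▸ Finset.mem_erase.2 ⟨hki, by simp [hW, hk]⟩))
  have hsum : ∀ f : ι → ℤ, ∑ k, w k * f k = w i * f i + w j * f j := fun f => by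
    rw [← Finset.sum_subset (Finset.subset_univ {i, j}) fun k _ hk => ?_, Finset.sum_pair hji.symm]
    by_contra hne
    rcases honly k (left_ne_zero_of_mul hne) with rfl | rfl <;> simp at hk
  have hjne : w j ≠ 0 := by
    have := (Finset.mem_erase.1 hjW).2
    simpa [hW] using this
  have ew := h.ew
  rw [hsum] at ew
  have hdi := h.hd i
  have hdj := h.hd j
  have hneg : w j = -w i := by
    rcases hs i with a | a | a <;> rcases hs j with b | b | b <;> rw [a, b] at ew ⊢ <;> omega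
  have hcan : ∀ f : ι → ℤ, ∑ k, w k * f k = 0 → f j = f i := fun f hf => by
    rw [hsum, hneg] at hf
    have : w i * (f i - f j) = 0 := by linarith
    have := (mul_eq_zero.1 this).resolve_left hi
    omega
  exact ⟨j, hji, hneg, hcan d h.ew, hcan c0 h.hw0, hcan c1 h.hw1, hcan c2 h.hw2, honly⟩

/-- The case of equal traces of the last two vectors on the first. -/
theorem sameCase (h : Rows p c0 c1 c2 w d g) {r1 r2 r3 q q' v v' : ι}
    (hr : r1 ≠ r2 ∧ r1 ≠ r3 ∧ r2 ≠ r3 ∧ r1 ≠ p ∧ r2 ≠ p ∧ r3 ≠ p)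
    (hq : q ≠ q' ∧ v ≠ v')
    (hS0 : ∀ i, c0 i ≠ 0 ↔ i = p ∨ i = r1 ∨ i = r2 ∨ i = r3)
    (hS1 : ∀ i, c1 i ≠ 0 ↔ i = r1 ∨ i = r2 ∨ i = q ∨ i = q')
    (hS2 : ∀ i, c2 i ≠ 0 ↔ i = r1 ∨ i = r2 ∨ i = v ∨ i = v')
    (hout : (∀ i, c0 i ≠ 0 → i ≠ q ∧ i ≠ q' ∧ i ≠ v ∧ i ≠ v') ∧ c2 q = 0 ∧ c2 q' = 0)
    (hag : c1 r1 = c0 r1 ∧ c1 r2 = c0 r2 ∧ c2 r1 = c0 r1 ∧ c2 r2 = c0 r2)
    (hclean : w q = 0 ∧ w q' = 0) :
    g = 175560 ∨ Exceptional p c0 c1 c2 w d := by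
  classical
  obtain ⟨h12, h13, h23, h1p, h2p, h3p⟩ := hr
  obtain ⟨hout, hq2, hq2'⟩ := hout
  obtain ⟨ha1, ha2, ha3, ha4⟩ := hag
  have b0 := abs_le_one (by rw [h.h00]) h.e0 h.hd
  have b1 := abs_le_one (by rw [h.h11]) h.e1 h.hd
  have n1 : c0 r1 ≠ 0 := (hS0 r1).2 (by tauto)
  have n2 : c0 r2 ≠ 0 := (hS0 r2).2 (by tauto)
  have n3 : c0 r3 ≠ 0 := (hS0 r3).2 (by tauto)
  obtain ⟨hr1q, hr1q', -, -⟩ := hout r1 n1
  obtain ⟨hr2q, hr2q', -, -⟩ := hout r2 n2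
  have z31 : c1 r3 = 0 := by
    by_contra hne
    have := hout r3 n3
    rcases (hS1 r3).1 hne with rfl | rfl | rfl | rfl <;> simp_all
  have z32 : c2 r3 = 0 := by
    by_contra hne
    have := hout r3 n3
    rcases (hS2 r3).1 hne with rfl | rfl | rfl | rfl <;> simp_all
  have w3 : w r3 = 0 := by
    by_contra hne
    obtain ⟨j, hji, hjw, -, hj0, hj1, -, -⟩ := h.twin hne
    rcases (hS0 j).1 (by rw [hj0]; exact n3) with rfl | rfl | rfl | rfl
    · rw [h.hp.2.2.2] at hjw; omega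
    · rw [z31, ha1] at hj1; exact n1 hj1
    · rw [z31, ha2] at hj1; exact n2 hj1
    · exact hji rfl
  have es : ∀ {i}, c0 i ≠ 0 → c0 i = 1 ∨ c0 i = -1 := fun {i} hi => (b0 i).resolve_left hi
  have hv : ∀ i, c0 i ≠ 0 → i ≠ p → SignedDeg g (c0 i * rowVal c0 c1 c2 w i) (c0 i * d i) :=
    fun i hi hip => signedDeg (es hi) (h.hd i) (h.val i hip (Or.inl hi))
  have hsum0 : ∀ {M : Type} [AddCommMonoid M] (f : ι → M), (∀ i, c0 i = 0 → f i = 0) →
      ∑ i, f i = f p + f r1 + f r2 + f r3 := fun f hf =>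
    sum_four h1p.symm h2p.symm h3p.symm h12 h13 h23 f fun i hi => (hS0 i).1 fun e => hi (hf i e)
  have hsum1 : ∀ {M : Type} [AddCommMonoid M] (f : ι → M), (∀ i, c1 i = 0 → f i = 0) →
      ∑ i, f i = f r1 + f r2 + f q + f q' := fun f hf =>
    sum_four h12 hr1q hr1q' hr2q hr2q' hq.1 f fun i hi => (hS1 i).1 fun e => hi (hf i e)
  have E0 := h.e0
  rw [hsum0 _ (fun i e => by rw [e, zero_mul]), h.hp.1, h.hd1] at E0
  have T0 := h.T0
  rw [hsum0 _ (fun i e => by simp [e]), term_div (es n1), term_div (es n2), term_div (es n3)] at T0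
  have hap : rowVal c0 c1 c2 w p = 1 := by simp [rowVal, h.hp]
  have hv3 : rowVal c0 c1 c2 w r3 = c0 r3 := by simp [rowVal, z31, z32, w3]
  rw [hap, hv3, h.hp.1, h.hd1] at T0
  have sd3 := hv r3 n3 h3p
  rw [hv3, mul_self_of (b0 r3) n3] at sd3
  have q0 : ∀ i, c0 i = 0 → c1 i ≠ 0 → c2 i = 0 → w i = 0 →
      rowVal c0 c1 c2 w i ^ 2 = 9 := fun i e0 e1 e2 ew => by
    simp only [rowVal, e0, e2, ew]
    rcases (b1 i).resolve_left e1 with e | e <;> rw [e] <;> norm_num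
  by_cases hwr : w r1 ≠ 0 ∨ w r2 ≠ 0
  · exfalso
    obtain ⟨s1, s2, hs12, hdd, hcc, hopp, hne, hp1, hp2, hcs⟩ : ∃ s1 s2, s1 ≠ s2 ∧
        d s2 = d s1 ∧ c0 s2 = c0 s1 ∧ w s2 = -w s1 ∧ w s1 ≠ 0 ∧ s1 ≠ p ∧ s2 ≠ p ∧
        (s1 = r1 ∧ s2 = r2 ∨ s1 = r2 ∧ s2 = r1) := by
      rcases hwr with hw | hw
      · obtain ⟨j, hji, hjw, hjd, hj0, hj1, -, -⟩ := h.twin hw
        rcases (hS0 j).1 (by rw [hj0]; exact n1) with rfl | rfl | rfl | rfl
        · rw [h.hp.2.2.2] at hjw; omega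
        · exact absurd rfl hji
        · exact ⟨r1, j, h12, hjd, hj0, hjw, hw, h1p, h2p, Or.inl ⟨rfl, rfl⟩⟩
        · rw [z31, ha1] at hj1; exact absurd hj1.symm n1
      · obtain ⟨j, hji, hjw, hjd, hj0, hj1, -, -⟩ := h.twin hw
        rcases (hS0 j).1 (by rw [hj0]; exact n2) with rfl | rfl | rfl | rfl
        · rw [h.hp.2.2.2] at hjw; omega
        · exact ⟨r2, j, h12.symm, hjd, hj0, hjw, hw, h2p, h1p, Or.inr ⟨rfl, rfl⟩⟩
        · exact absurd rfl hji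
        · rw [z31, ha2] at hj1; exact absurd hj1.symm n2
    have hcc' : c0 r2 = c0 r1 ∧ d r2 = d r1 ∧ w r2 = -w r1 := by
      rcases hcs with ⟨rfl, rfl⟩ | ⟨rfl, rfl⟩ <;> refine ⟨?_, ?_, ?_⟩ <;> omega
    obtain ⟨ec, ed, ew⟩ := hcc'
    have hw1 : w r1 ≠ 0 := by rcases hcs with ⟨rfl, rfl⟩ | ⟨rfl, rfl⟩ <;> omega
    have bw := (abs_le_one (by rw [h.hww]; norm_num) h.ew h.hd r1).resolve_left hw1
    have sd1 := hv r1 n1 h1p
    have sd2 := hv r2 n2 h2p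
    rw [ec, ed] at sd2 E0 T0
    simp only [rowVal, ha1, ha2, ha3, ha4, ec, ew] at sd1 sd2 T0
    set D := c0 r1 * d r1 with hD
    set D3 := c0 r3 * d r3 with hD3
    rcases es n1 with e | e <;> rcases bw with e' | e' <;> rw [e, e'] at sd1 sd2 T0
    all_goals
      first
        | exact searchV sd1 sd2 sd3 (by omega) h.g840 (by
            rcases es n3 with e3 | e3 <;> rw [e3] at T0 <;> norm_num at T0 ⊢ <;> linear_combination T0)
        | exact searchV sd2 sd1 sd3 (by omega) h.g840 (by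
            rcases es n3 with e3 | e3 <;> rw [e3] at T0 <;> norm_num at T0 ⊢ <;> linear_combination T0)
  · push Not at hwr
    obtain ⟨w1, w2⟩ := hwr
    have hv1 : c0 r1 * rowVal c0 c1 c2 w r1 = -5 := by
      simp only [rowVal, ha1, ha3, w1]
      linear_combination (-5) * mul_self_of (b0 r1) n1
    have hv2 : c0 r2 * rowVal c0 c1 c2 w r2 = -5 := by
      simp only [rowVal, ha2, ha4, w2]
      linear_combination (-5) * mul_self_of (b0 r2) n2
    have hsq : ∀ {i}, c0 i ≠ 0 → c0 i * rowVal c0 c1 c2 w i = -5 →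
        rowVal c0 c1 c2 w i ^ 2 = 25 := fun {i} hi e => by
      have := congrArg (fun z => z ^ 2) e
      simp only [mul_pow] at this
      rw [show c0 i ^ 2 = 1 by rw [sq]; exact mul_self_of (b0 i) hi, one_mul] at this
      exact this
    have sd1 := hv r1 n1 h1p
    have sd2 := hv r2 n2 h2p
    rw [hv1] at sd1
    rw [hv2] at sd2
    rw [hsq n1 hv1, hsq n2 hv2] at T0
    obtain ⟨wq, wq'⟩ := hclean
    have nq : c1 q ≠ 0 := (hS1 q).2 (by tauto)
    have nq' : c1 q' ≠ 0 := (hS1 q').2 (by tauto)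
    have z0 : ∀ i, i = q ∨ i = q' → c0 i = 0 := fun i hi => by
      by_contra hne
      obtain ⟨a, b, -, -⟩ := hout i hne
      rcases hi with rfl | rfl <;> simp_all
    have E1 := h.e1
    rw [hsum1 _ (fun i e => by rw [e, zero_mul]), ha1, ha2] at E1
    have T1 := h.T1
    rw [hsum1 _ (fun i e => by simp [e]), ha1, ha2, term_div (es n1), term_div (es n2),
      term_div ((b1 q).resolve_left nq), term_div ((b1 q').resolve_left nq'), hsq n1 hv1,
      hsq n2 hv2, q0 q (z0 q (Or.inl rfl)) nq hq2 wq,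
      q0 q' (z0 q' (Or.inr rfl)) nq' hq2' wq'] at T1
    have hqp : q ≠ p := fun e => nq (e ▸ h.hp.2.1)
    suffices hA : g = 175560 ∨ (c0 r1 * d r1 = -21 ∧ c0 r2 * d r2 = 35) ∨
        (c0 r1 * d r1 = 35 ∧ c0 r2 * d r2 = -21) by
      refine hA.imp id fun hD => ?_
      have d1 := h.hd r1
      have d2 := h.hd r2
      have d3 := h.hd r3
      have hs : ∀ i, c0 i ≠ 0 → i = p ∨ i = r1 ∨ i = r2 ∨ i = r3 := fun i hi => (hS0 i).1 hi
      rcases hD with ⟨e1, e2⟩ | ⟨e1, e2⟩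
      · refine ⟨r1, r2, r3, ⟨h12, h13, h23, h1p, h2p, h3p⟩, hs, ?_, ?_, ?_⟩
        all_goals
          rcases es n1 with f1 | f1 <;> rcases es n2 with f2 | f2 <;> rcases es n3 with f3 | f3 <;>
            rw [f1] at e1 E0 <;> rw [f2] at e2 E0 <;> rw [f3] at E0 <;> omega
      · refine ⟨r2, r1, r3, ⟨h12.symm, h23, h13, h2p, h1p, h3p⟩,
          fun i hi => by have := hs i hi; tauto, ?_, ?_, ?_⟩
        all_goals
          rcases es n1 with f1 | f1 <;> rcases es n2 with f2 | f2 <;> rcases es n3 with f3 | f3 <;>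
            rw [f1] at e1 E0 <;> rw [f2] at e2 E0 <;> rw [f3] at E0 <;> omega
    refine caseA (X := c1 q * d q) (Y := c1 q' * d q') sd1 sd2 sd3 ?_
      (mul_ne_zero nq (h.hd q).ne') (mul_ne_zero nq' (h.hd q').ne') (by omega) (by omega) h.g840
      ?_ ?_
    · rw [mul_mul_mul_comm, mul_self_of (b1 q) nq, one_mul]
      exact (h.val q hqp (Or.inr (Or.inl nq))).2.2.2
    · rcases es n3 with e3 | e3 <;> rw [e3] at T0 ⊢ <;> norm_num at T0 ⊢ <;> linear_combination T0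
    · norm_num at T1 ⊢
      linear_combination T1

/-- The case of different traces is impossible. -/
theorem mixedCase (h : Rows p c0 c1 c2 w d g) {r1 r2 r3 x y : ι}
    (hr : r1 ≠ r2 ∧ r1 ≠ r3 ∧ r2 ≠ r3 ∧ r1 ≠ p ∧ r2 ≠ p ∧ r3 ≠ p)
    (hxy : x ≠ y ∧ c0 x = 0 ∧ c0 y = 0)
    (hS0 : ∀ i, c0 i ≠ 0 ↔ i = p ∨ i = r1 ∨ i = r2 ∨ i = r3)
    (hS1 : ∀ i, c1 i ≠ 0 ↔ i = r1 ∨ i = r2 ∨ i = x ∨ i = y)
    (hc2 : c2 r2 = 0 ∧ c2 y = 0 ∧ c2 x = c1 x)
    (hag : c1 r1 = c0 r1 ∧ c1 r2 = c0 r2 ∧ c2 r1 = c0 r1 ∧ c2 r3 = c0 r3) : False := by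
  classical
  obtain ⟨h12, h13, h23, h1p, h2p, h3p⟩ := hr
  obtain ⟨hxy, x0, y0⟩ := hxy
  obtain ⟨z22, zy, ex⟩ := hc2
  obtain ⟨a1, a2, a3, a4⟩ := hag
  have b0 := abs_le_one (by rw [h.h00]) h.e0 h.hd
  have b1 := abs_le_one (by rw [h.h11]) h.e1 h.hd
  have n1 : c0 r1 ≠ 0 := (hS0 r1).2 (by tauto)
  have n2 : c0 r2 ≠ 0 := (hS0 r2).2 (by tauto)
  have n3 : c0 r3 ≠ 0 := (hS0 r3).2 (by tauto)
  have nx : c1 x ≠ 0 := (hS1 x).2 (by tauto)
  have ny : c1 y ≠ 0 := (hS1 y).2 (by tauto)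
  have d1x : r1 ≠ x := fun e => n1 (e ▸ x0)
  have d1y : r1 ≠ y := fun e => n1 (e ▸ y0)
  have d2x : r2 ≠ x := fun e => n2 (e ▸ x0)
  have d2y : r2 ≠ y := fun e => n2 (e ▸ y0)
  have z31 : c1 r3 = 0 := by
    by_contra hne
    rcases (hS1 r3).1 hne with e | e | e | e
    · exact h13 e.symm
    · exact h23 e.symm
    · exact n3 (e ▸ x0)
    · exact n3 (e ▸ y0)
  have w1 : w r1 = 0 := by
    by_contra hne
    obtain ⟨j, hji, hjw, -, e0, e1, e2, -⟩ := h.twin hne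
    rcases (hS0 j).1 (by rw [e0]; exact n1) with rfl | rfl | rfl | rfl
    · rw [h.hp.2.2.2] at hjw; omega
    · exact hji rfl
    · rw [z22, a3] at e2; exact n1 e2.symm
    · rw [z31, a1] at e1; exact n1 e1.symm
  have w2 : w r2 = 0 := by
    by_contra hne
    obtain ⟨j, hji, hjw, -, e0, e1, e2, -⟩ := h.twin hne
    rcases (hS0 j).1 (by rw [e0]; exact n2) with rfl | rfl | rfl | rfl
    · rw [h.hp.2.2.2] at hjw; omega
    · rw [a3, z22] at e2; exact n1 e2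
    · exact hji rfl
    · rw [z31, a2] at e1; exact n2 e1.symm
  have w3 : w r3 = 0 := by
    by_contra hne
    obtain ⟨j, hji, hjw, -, e0, e1, -, -⟩ := h.twin hne
    rcases (hS0 j).1 (by rw [e0]; exact n3) with rfl | rfl | rfl | rfl
    · rw [h.hp.2.2.2] at hjw; omega
    · rw [a1, z31] at e1; exact n1 e1
    · rw [a2, z31] at e1; exact n2 e1
    · exact hji rfl
  have wx : w x = 0 := by
    by_contra hne
    obtain ⟨j, hji, -, -, e0, e1, e2, -⟩ := h.twin hne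
    rcases (hS1 j).1 (by rw [e1]; exact nx) with rfl | rfl | rfl | rfl
    · exact n1 (e0.trans x0)
    · exact n2 (e0.trans x0)
    · exact hji rfl
    · rw [zy, ex] at e2; exact nx e2.symm
  have wy : w y = 0 := by
    by_contra hne
    obtain ⟨j, hji, -, -, e0, e1, e2, -⟩ := h.twin hne
    rcases (hS1 j).1 (by rw [e1]; exact ny) with rfl | rfl | rfl | rfl
    · exact n1 (e0.trans y0)
    · exact n2 (e0.trans y0)
    · rw [ex, zy] at e2; exact nx e2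
    · exact hji rfl
  have es : ∀ {i}, c0 i ≠ 0 → c0 i = 1 ∨ c0 i = -1 := fun {i} hi => (b0 i).resolve_left hi
  have hv : ∀ {i}, c0 i ≠ 0 → i ≠ p → ∀ {a}, c0 i * rowVal c0 c1 c2 w i = a →
      SignedDeg g a (c0 i * d i) :=
    fun {i} hi hip {a} e => e ▸ signedDeg (es hi) (h.hd i) (h.val i hip (Or.inl hi))
  have hsq : ∀ {i}, c0 i ≠ 0 → ∀ {a}, c0 i * rowVal c0 c1 c2 w i = a →
      rowVal c0 c1 c2 w i ^ 2 = a ^ 2 := fun {i} hi {a} e => by
    have := congrArg (fun z => z ^ 2) e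
    simp only [mul_pow] at this
    rw [show c0 i ^ 2 = 1 by rw [sq]; exact mul_self_of (b0 i) hi, one_mul] at this
    exact this
  have v1 : c0 r1 * rowVal c0 c1 c2 w r1 = -5 := by
    simp only [rowVal, a1, a3, w1]
    linear_combination (-5) * mul_self_of (b0 r1) n1
  have v2 : c0 r2 * rowVal c0 c1 c2 w r2 = -2 := by
    simp only [rowVal, a2, z22, w2]
    linear_combination (-2) * mul_self_of (b0 r2) n2
  have v3 : c0 r3 * rowVal c0 c1 c2 w r3 = -2 := by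
    simp only [rowVal, z31, a4, w3]
    linear_combination (-2) * mul_self_of (b0 r3) n3
  have vx : rowVal c0 c1 c2 w x ^ 2 = 36 := by
    simp only [rowVal, x0, ex, wx]
    rcases (b1 x).resolve_left nx with e | e <;> rw [e] <;> norm_num
  have vy : rowVal c0 c1 c2 w y ^ 2 = 9 := by
    simp only [rowVal, y0, zy, wy]
    rcases (b1 y).resolve_left ny with e | e <;> rw [e] <;> norm_num
  have hap : rowVal c0 c1 c2 w p = 1 := by simp [rowVal, h.hp]
  have hsum0 : ∀ {M : Type} [AddCommMonoid M] (f : ι → M), (∀ i, c0 i = 0 → f i = 0) →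
      ∑ i, f i = f p + f r1 + f r2 + f r3 := fun f hf =>
    sum_four h1p.symm h2p.symm h3p.symm h12 h13 h23 f fun i hi => (hS0 i).1 fun e => hi (hf i e)
  have hsum1 : ∀ {M : Type} [AddCommMonoid M] (f : ι → M), (∀ i, c1 i = 0 → f i = 0) →
      ∑ i, f i = f r1 + f r2 + f x + f y := fun f hf =>
    sum_four h12 d1x d1y d2x d2y hxy f fun i hi => (hS1 i).1 fun e => hi (hf i e)
  have E0 := h.e0
  rw [hsum0 _ (fun i e => by rw [e, zero_mul]), h.hp.1, h.hd1] at E0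
  have T0 := h.T0
  rw [hsum0 _ (fun i e => by simp [e]), term_div (es n1), term_div (es n2), term_div (es n3),
    hap, h.hp.1, h.hd1, hsq n1 v1, hsq n2 v2, hsq n3 v3] at T0
  have E1 := h.e1
  rw [hsum1 _ (fun i e => by rw [e, zero_mul]), a1, a2] at E1
  have T1 := h.T1
  rw [hsum1 _ (fun i e => by simp [e]), a1, a2, term_div (es n1), term_div (es n2),
    term_div ((b1 x).resolve_left nx), term_div ((b1 y).resolve_left ny), hsq n1 v1, hsq n2 v2,
    vx, vy] at T1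
  have hxp : x ≠ p := fun e => nx (e ▸ h.hp.2.1)
  refine caseB (X := c1 x * d x) (Y := c1 y * d y) (hv n1 h1p v1) (hv n2 h2p v2) (hv n3 h3p v3) ?_
    (mul_ne_zero nx (h.hd x).ne') (mul_ne_zero ny (h.hd y).ne') (by omega) (by omega) h.g840 ?_ ?_
  · rw [mul_mul_mul_comm, mul_self_of (b1 x) nx, one_mul]
    exact (h.val x hxp (Or.inr (Or.inl nx))).2.2.2
  · norm_num at T0 ⊢
    linear_combination T0
  · norm_num at T1 ⊢
    linear_combination T1

/-- The trace of a vector on the first support. -/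
theorem trace_two [DecidableEq ι] {c : ι → ℤ} (b0 : ∀ i, c0 i = 0 ∨ c0 i = 1 ∨ c0 i = -1)
    (bc : ∀ i, c i = 0 ∨ c i = 1 ∨ c i = -1) {r1 r2 r3 : ι} (hcp : c p = 0)
    (hS0 : ∀ i, c0 i ≠ 0 ↔ i = p ∨ i = r1 ∨ i = r2 ∨ i = r3)
    (hr : r1 ≠ r2 ∧ r1 ≠ r3 ∧ r2 ≠ r3) (hcc : ∑ i, c0 i * c i = 2) :
    (c r1 = c0 r1 ∧ c r2 = c0 r2 ∧ c r3 = 0) ∨ (c r1 = c0 r1 ∧ c r2 = 0 ∧ c r3 = c0 r3) ∨
      (c r1 = 0 ∧ c r2 = c0 r2 ∧ c r3 = c0 r3) := by
  obtain ⟨h12, h13, h23⟩ := hr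
  have hsum : ∑ i, c0 i * c i = c0 r1 * c r1 + c0 r2 * c r2 + c0 r3 * c r3 := by
    rw [← Finset.sum_subset (Finset.subset_univ {r1, r2, r3}) fun i _ hi => ?_,
      Finset.sum_insert (by simp [h12, h13]), Finset.sum_pair h23, add_assoc]
    by_contra hne
    rcases (hS0 i).1 (left_ne_zero_of_mul hne) with rfl | rfl | rfl | rfl
    · exact right_ne_zero_of_mul hne hcp
    all_goals simp at hi
  rw [hsum] at hcc
  have n1 : c0 r1 ≠ 0 := (hS0 r1).2 (by tauto)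
  have n2 : c0 r2 ≠ 0 := (hS0 r2).2 (by tauto)
  have n3 : c0 r3 ≠ 0 := (hS0 r3).2 (by tauto)
  rcases (b0 r1).resolve_left n1 with e1 | e1 <;> rcases (b0 r2).resolve_left n2 with e2 | e2 <;>
    rcases (b0 r3).resolve_left n3 with e3 | e3 <;> rw [e1, e2, e3] at hcc ⊢ <;>
    rcases bc r1 with f1 | f1 | f1 <;> rcases bc r2 with f2 | f2 | f2 <;>
    rcases bc r3 with f3 | f3 | f3 <;> rw [f1, f2, f3] at hcc ⊢ <;> omega

/-- The two rows outside the first support. -/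
theorem outside [DecidableEq ι] {c : ι → ℤ} (bc : ∀ i, c i = 0 ∨ c i = 1 ∨ c i = -1)
    (h4 : ∑ i, c i * c i = 4) {a b z : ι} (hab : a ≠ b) (ha : c a ≠ 0) (hb : c b ≠ 0)
    (hc0 : ∀ i, c0 i ≠ 0 → i = p ∨ i = a ∨ i = b ∨ i = z) (hp : c p = 0) (hz : c z = 0) :
    ∃ q q', q ≠ q' ∧ c0 q = 0 ∧ c0 q' = 0 ∧ ∀ i, c i ≠ 0 ↔ i = a ∨ i = b ∨ i = q ∨ i = q' := by
  have h := (card_supp bc).trans h4
  set S := Finset.univ.filter fun i => c i ≠ 0 with hS
  have haS : a ∈ S := by simp [hS, ha]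
  have hbS : b ∈ S.erase a := Finset.mem_erase.2 ⟨hab.symm, by simp [hS, hb]⟩
  have h2 : ((S.erase a).erase b).card = 2 := by
    rw [Finset.card_erase_of_mem hbS, Finset.card_erase_of_mem haS]
    omega
  obtain ⟨q, q', hqq, e⟩ := Finset.card_eq_two.1 h2
  have hmem : ∀ i, i ∈ (S.erase a).erase b ↔ i = q ∨ i = q' := fun i => by rw [e]; simp
  have hout : ∀ i, i = q ∨ i = q' → c0 i = 0 := fun i hi => by
    by_contra hne
    have := (hmem i).2 hi
    simp only [Finset.mem_erase, hS, Finset.mem_filter, Finset.mem_univ, true_and] at this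
    rcases hc0 i hne with rfl | rfl | rfl | rfl
    · exact this.2.2 hp
    · exact this.2.1 rfl
    · exact this.1 rfl
    · exact this.2.2 hz
  refine ⟨q, q', hqq, hout q (Or.inl rfl), hout q' (Or.inr rfl), fun i => ⟨fun hi => ?_, ?_⟩⟩
  · by_cases e1 : i = a
    · exact Or.inl e1
    · by_cases e2 : i = b
      · exact Or.inr (Or.inl e2)
      · exact Or.inr (Or.inr ((hmem i).1 (by simp [hS, hi, e1, e2])))
  · rintro (rfl | rfl | hi)
    · exact ha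
    · exact hb
    · have := (hmem i).2 hi
      simp only [Finset.mem_erase, hS, Finset.mem_filter, Finset.mem_univ, true_and] at this
      exact this.2.2

/-- Only two orders are possible. -/
theorem order (h : Rows p c0 c1 c2 w d g) : g = 175560 ∨ Exceptional p c0 c1 c2 w d := by
  classical
  have b0 := abs_le_one (by rw [h.h00]) h.e0 h.hd
  have b1 := abs_le_one (by rw [h.h11]) h.e1 h.hd
  have b2 := abs_le_one (by rw [h.h22]) h.e2 h.hd
  have hc4 := (card_supp b0).trans h.h00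
  set S := Finset.univ.filter fun i => c0 i ≠ 0 with hS
  have hpS : p ∈ S := by simp [hS, h.hp.1]
  obtain ⟨r1, r2, r3, h12, h13, h23, e⟩ := Finset.card_eq_three.1
    (show (S.erase p).card = 3 by rw [Finset.card_erase_of_mem hpS]; omega)
  have hmem : ∀ i, i ∈ S.erase p ↔ i = r1 ∨ i = r2 ∨ i = r3 := fun i => by rw [e]; simp
  have hS0 : ∀ i, c0 i ≠ 0 ↔ i = p ∨ i = r1 ∨ i = r2 ∨ i = r3 := fun i => by
    constructor
    · intro hi
      by_cases hip : i = p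
      · exact Or.inl hip
      · exact Or.inr ((hmem i).1 (by simp [hS, hi, hip]))
    · rintro (rfl | hi)
      · rw [h.hp.1]; exact one_ne_zero
      · have := (hmem i).2 hi
        simp only [Finset.mem_erase, hS, Finset.mem_filter, Finset.mem_univ, true_and] at this
        exact this.2
  have hrp : ∀ i, i = r1 ∨ i = r2 ∨ i = r3 → i ≠ p := fun i hi =>
    Finset.ne_of_mem_erase ((hmem i).2 hi)
  -- any labelling of the two common rows
  suffices key : ∀ a b z, a ≠ b → a ≠ z → b ≠ z → a ≠ p → b ≠ p → z ≠ p →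
      (∀ i, c0 i ≠ 0 ↔ i = p ∨ i = a ∨ i = b ∨ i = z) →
      c1 a = c0 a → c1 b = c0 b → c1 z = 0 → g = 175560 ∨ Exceptional p c0 c1 c2 w d by
    rcases trace_two b0 b1 h.hp.2.1 hS0 ⟨h12, h13, h23⟩ h.h01 with ⟨u, v, s⟩ | ⟨u, s, v⟩ | ⟨s, u, v⟩
    · exact key r1 r2 r3 h12 h13 h23 (hrp r1 (by tauto)) (hrp r2 (by tauto)) (hrp r3 (by tauto))
        hS0 u v s
    · exact key r1 r3 r2 h13 h12 h23.symm (hrp r1 (by tauto)) (hrp r3 (by tauto)) (hrp r2 (by tauto))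
        (fun i => by rw [hS0 i]; tauto) u v s
    · exact key r2 r3 r1 h23 h12.symm h13.symm (hrp r2 (by tauto)) (hrp r3 (by tauto))
        (hrp r1 (by tauto)) (fun i => by rw [hS0 i]; tauto) u v s
  intro a b z hab haz hbz hap hbp hzp hS0 ea eb ez
  have na : c0 a ≠ 0 := (hS0 a).2 (by tauto)
  have nb : c0 b ≠ 0 := (hS0 b).2 (by tauto)
  have nz : c0 z ≠ 0 := (hS0 z).2 (by tauto)
  obtain ⟨q, q', hqq, q0, q0', hS1⟩ := outside (p := p) (c0 := c0) b1 h.h11 hab (by rw [ea]; exact na)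
    (by rw [eb]; exact nb) (fun i hi => (hS0 i).1 hi) h.hp.2.1 ez
  have daq : a ≠ q := fun e => na (e ▸ q0)
  have daq' : a ≠ q' := fun e => na (e ▸ q0')
  have dbq : b ≠ q := fun e => nb (e ▸ q0)
  have dbq' : b ≠ q' := fun e => nb (e ▸ q0')
  have h12' : c1 a * c2 a + c1 b * c2 b + c1 q * c2 q + c1 q' * c2 q' = 2 := by
    rw [← h.h12]
    exact (sum_four hab daq daq' dbq dbq' hqq _ fun i hi => (hS1 i).1 (left_ne_zero_of_mul hi)).symm
  have nq : c1 q ≠ 0 := (hS1 q).2 (by tauto)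
  have nq' : c1 q' ≠ 0 := (hS1 q').2 (by tauto)
  rcases trace_two b0 b2 h.hp.2.2.1 hS0 ⟨hab, haz, hbz⟩ h.h02 with ⟨u, v, s⟩ | ⟨u, s, v⟩ | ⟨s, u, v⟩
  · rw [ea, eb, u, v, mul_self_of (b0 a) na, mul_self_of (b0 b) nb] at h12'
    by_cases hq2 : c2 q = 0
    · rw [hq2, mul_zero] at h12'
      have hq2' : c2 q' = 0 := (mul_eq_zero.1 (by omega)).resolve_left nq'
      obtain ⟨x, x', hxx, x0, x0', hS2⟩ := outside (p := p) (c0 := c0) b2 h.h22 hab
        (by rw [u]; exact na) (by rw [v]; exact nb) (fun i hi => (hS0 i).1 hi) h.hp.2.2.1 s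
      have dax : a ≠ x := fun e => na (e ▸ x0)
      have dax' : a ≠ x' := fun e => na (e ▸ x0')
      have dbx : b ≠ x := fun e => nb (e ▸ x0)
      have dbx' : b ≠ x' := fun e => nb (e ▸ x0')
      have z1 : ∀ i, i = x ∨ i = x' → c1 i = 0 := fun i hi => by
        by_contra hne
        have n2 : c2 i ≠ 0 := (hS2 i).2 (by tauto)
        rcases (hS1 i).1 hne with rfl | rfl | rfl | rfl
        · rcases hi with e | e <;> contradiction
        · rcases hi with e | e <;> contradiction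
        · exact n2 hq2
        · exact n2 hq2'
      have hsp : (w q = 0 ∧ w q' = 0) ∨ (w x = 0 ∧ w x' = 0) := by
        by_contra hne
        rw [not_or, not_and_or, not_and_or] at hne
        obtain ⟨hq, hx⟩ := hne
        obtain ⟨i, hi, hwi⟩ : ∃ i, (i = q ∨ i = q') ∧ w i ≠ 0 := by
          rcases hq with e | e
          · exact ⟨q, Or.inl rfl, e⟩
          · exact ⟨q', Or.inr rfl, e⟩
        obtain ⟨k, hk, hwk⟩ : ∃ k, (k = x ∨ k = x') ∧ w k ≠ 0 := by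
          rcases hx with e | e
          · exact ⟨x, Or.inl rfl, e⟩
          · exact ⟨x', Or.inr rfl, e⟩
        obtain ⟨j, -, -, -, -, e1, -, honly⟩ := h.twin hwi
        have ni : c1 i ≠ 0 := (hS1 i).2 (by tauto)
        have zk : c1 k = 0 := z1 k hk
        rcases honly k hwk with rfl | rfl
        · exact ni zk
        · exact ni (e1.symm.trans zk)
      have hr : a ≠ b ∧ a ≠ z ∧ b ≠ z ∧ a ≠ p ∧ b ≠ p ∧ z ≠ p := ⟨hab, haz, hbz, hap, hbp, hzp⟩
      have hout : ∀ i, c0 i ≠ 0 → i ≠ q ∧ i ≠ q' ∧ i ≠ x ∧ i ≠ x' := fun i hi =>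
        ⟨fun e => hi (e ▸ q0), fun e => hi (e ▸ q0'), fun e => hi (e ▸ x0), fun e => hi (e ▸ x0')⟩
      rcases hsp with hw | hw
      · exact h.sameCase hr ⟨hqq, hxx⟩ hS0 hS1 hS2 ⟨hout, hq2, hq2'⟩ ⟨ea, eb, u, v⟩ hw
      · refine (h.swap.sameCase hr ⟨hxx, hqq⟩ hS0 hS2 hS1
          ⟨fun i hi => ⟨(hout i hi).2.2.1, (hout i hi).2.2.2, (hout i hi).1, (hout i hi).2.1⟩,
            z1 x (Or.inl rfl), z1 x' (Or.inr rfl)⟩ ⟨u, v, ea, eb⟩ hw).imp id ?_
        rintro ⟨a', b', z', h1, h2, h3, h4, h5⟩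
        exact ⟨a', b', z', h1, h2, by omega, by omega, by omega⟩
    · exfalso
      have hq2' : c2 q' ≠ 0 := fun e => by
        rw [e, mul_zero] at h12'
        exact hq2 ((mul_eq_zero.1 (by omega)).resolve_left nq)
      have hS2 : ∀ i, c2 i ≠ 0 → i = a ∨ i = b ∨ i = q ∨ i = q' := by
        obtain ⟨x, x', hxx, x0, x0', hS2⟩ := outside (p := p) (c0 := c0) b2 h.h22 hab
          (by rw [u]; exact na) (by rw [v]; exact nb) (fun i hi => (hS0 i).1 hi) h.hp.2.2.1 s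
        have m1 : q = x ∨ q = x' :=
          (((hS2 q).1 hq2).resolve_left daq.symm).resolve_left dbq.symm
        have m2 : q' = x ∨ q' = x' :=
          (((hS2 q').1 hq2').resolve_left daq'.symm).resolve_left dbq'.symm
        intro i hi
        rcases (hS2 i).1 hi with e | e | e | e
        · exact Or.inl e
        · exact Or.inr (Or.inl e)
        all_goals grind
      have E1 := h.e1
      have E2 := h.e2
      rw [sum_four hab daq daq' dbq dbq' hqq (fun i => c1 i * d i)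
        fun i hi => (hS1 i).1 (left_ne_zero_of_mul hi), ea, eb] at E1
      rw [sum_four hab daq daq' dbq dbq' hqq (fun i => c2 i * d i)
        fun i hi => hS2 i (left_ne_zero_of_mul hi), u, v] at E2
      exact opposite ((b1 q).resolve_left nq) ((b1 q').resolve_left nq') ((b2 q).resolve_left hq2)
        ((b2 q').resolve_left hq2') (by omega) (h.hd q) (h.hd q') (by omega)
  all_goals exfalso
  · rw [ea, eb, u, s, mul_self_of (b0 a) na, mul_zero] at h12'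
    rcases one_of_sum ((b1 q).resolve_left nq) ((b1 q').resolve_left nq') (b2 q) (b2 q')
        (by omega) with ⟨f3, f4⟩ | ⟨f4, f3⟩
    · exact h.mixedCase (x := q) (y := q') ⟨hab, haz, hbz, hap, hbp, hzp⟩ ⟨hqq, q0, q0'⟩
        hS0 hS1 ⟨s, f4, f3⟩ ⟨ea, eb, u, v⟩
    · exact h.mixedCase (x := q') (y := q) ⟨hab, haz, hbz, hap, hbp, hzp⟩ ⟨hqq.symm, q0', q0⟩
        hS0 (fun i => (hS1 i).trans perm34) ⟨s, f3, f4⟩ ⟨ea, eb, u, v⟩
  · rw [ea, eb, s, u, mul_self_of (b0 b) nb, mul_zero] at h12'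
    have hS0' : ∀ i, c0 i ≠ 0 ↔ i = p ∨ i = b ∨ i = a ∨ i = z := fun i => (hS0 i).trans perm23
    rcases one_of_sum ((b1 q).resolve_left nq) ((b1 q').resolve_left nq') (b2 q) (b2 q')
        (by omega) with ⟨f3, f4⟩ | ⟨f4, f3⟩
    · exact h.mixedCase (x := q) (y := q') ⟨hab.symm, hbz, haz, hbp, hap, hzp⟩ ⟨hqq, q0, q0'⟩
        hS0' (fun i => (hS1 i).trans perm12) ⟨s, f4, f3⟩ ⟨eb, ea, u, v⟩
    · exact h.mixedCase (x := q') (y := q) ⟨hab.symm, hbz, haz, hbp, hap, hzp⟩ ⟨hqq.symm, q0', q0⟩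
        hS0' (fun i => (hS1 i).trans (perm12.trans perm34)) ⟨s, f3, f4⟩ ⟨eb, ea, u, v⟩

end Rows

end CfsgLib.JanOrder
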