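import Cfsg.Agent.Lib.JanOrder.Setup
import Cfsg.Agent.Lib.CharApps.Basic
import Cfsg.Agent.Lib.EightSolvCent.Omega
import Mathlib.RepresentationTheory.Character

/-!
# Bounds on a character at an element of order three of the involution centralizer
-/

set_option autoImplicit false
set_option linter.unusedSectionVars false
set_option linter.style.haveILetI false
set_option synthInstance.maxSize 20000
set_option synthInstance.maxHeartbeats 200000

namespace CfsgLib.JanOrder

open Cfsg CfsgLib.Base CfsgLib.Chars CfsgLib.CharApps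


/-- The number of eigenvalues equal to a given root. -/
theorem exists_multiplicity {G : Type*} [Group G] [Finite G] {χ : G → ℂ} (hχ : IsCharacter G χ)
    (h : G) {n : ℕ} (hn : 0 < n) (hh : h ^ n = 1) (ζ : ℂ) (hζ : ζ ^ n = 1) :
    ∃ m : ℕ, ∑ k ∈ Finset.range n, ζ ^ k * χ (h ^ k) = (n : ℂ) * m := by
  classical
  obtain ⟨N, ρ, rfl⟩ := hχ
  obtain ⟨b, μ, hμ, -, hb, -, -, -⟩ := exists_eigenbasis_rep ρ h
  have hpow : ∀ k i, ρ (h ^ k) (b i) = (μ i ^ k) • b i := by
    intro k i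
    induction k with
    | zero => simp
    | succ k ih =>
      rw [pow_succ, map_mul, Module.End.mul_apply, hb, map_smul, ih, smul_smul, ← pow_succ']
  have hval : ∀ k, ρ.character (h ^ k) = ∑ i, μ i ^ k := fun k =>
    trace_eq_sum_of_eigenbasis _ b _ (hpow k)
  have hgeom : ∀ i, ∑ k ∈ Finset.range n, (ζ * μ i) ^ k = if ζ * μ i = 1 then (n : ℂ) else 0 := by
    intro i
    have hone : (ζ * μ i) ^ n = 1 := by
      rw [mul_pow, hζ, one_mul]
      obtain ⟨c, hc⟩ := orderOf_dvd_of_pow_eq_one hh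
      rw [hc, pow_mul, hμ, one_pow]
    split_ifs with e
    · simp [e]
    · rw [geom_sum_eq e, hone, sub_self, zero_div]
  refine ⟨(Finset.univ.filter fun i => ζ * μ i = 1).card, ?_⟩
  simp only [hval, Finset.mul_sum, ← mul_pow]
  rw [Finset.sum_comm, Finset.sum_congr rfl fun i _ => hgeom i, ← Finset.sum_filter,
    Finset.sum_const, nsmul_eq_mul, mul_comm]

/-- The sum of a character over the group counts the fixed space. -/
theorem sum_character {K : Type*} [Group K] [Fintype K] {V : Type*} [AddCommGroup V] [Module ℂ V]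
    [FiniteDimensional ℂ V] (σ : Representation ℂ K V) :
    ∑ k, σ.character k = (Fintype.card K : ℂ) * Module.finrank ℂ σ.invariants := by
  haveI : Invertible (Fintype.card K : ℂ) :=
    invertibleOfNonzero (Nat.cast_ne_zero.2 Fintype.card_ne_zero)
  rw [← σ.isProj_averageMap.trace]
  simp [Representation.averageMap, GroupAlgebra.average, Representation.character, map_sum]

/-- The fixed space of a subgroup contains that of a larger one. -/
theorem sum_char_le {K : Type*} [Group K] [Finite K] {χ : K → ℂ} (hχ : IsCharacter K χ)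
    {A B : Subgroup K} [Fintype A] [Fintype B] (h : A ≤ B) :
    ∃ a b : ℕ, b ≤ a ∧ ∑ x : A, χ x = (Fintype.card A : ℂ) * a ∧
      ∑ x : B, χ x = (Fintype.card B : ℂ) * b := by
  obtain ⟨N, ρ, rfl⟩ := hχ
  refine ⟨_, _, Submodule.finrank_mono fun v hv => ?_, sum_character (ρ.comp A.subtype),
    sum_character (ρ.comp B.subtype)⟩
  rw [Representation.mem_invariants] at hv ⊢
  exact fun x => hv ⟨x, h x.2⟩

/-- The stabilizer of the point `4`. -/
def fixFour (m : Mdl) : Prop := (m.2 : Equiv.Perm (Fin 5)) 4 = 4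

instance : DecidablePred fixFour := fun m => inferInstanceAs (Decidable ((m.2 : Equiv.Perm (Fin 5)) 4 = 4))

theorem fixFour_mul : ∀ m, fixFour m → ∀ n, fixFour n → fixFour (m * n) := by decide +kernel

theorem eight_mul : ∀ m, fixFour m ∧ m * m = 1 → ∀ n, fixFour n ∧ n * n = 1 →
    fixFour (m * n) ∧ m * n * (m * n) = 1 := by decide +kernel

theorem normX_mul : ∀ m, m * xM = xM * m ∨ m * xM = xM⁻¹ * m → ∀ n,
    n * xM = xM * n ∨ n * xM = xM⁻¹ * n →
    m * n * xM = xM * (m * n) ∨ m * n * xM = xM⁻¹ * (m * n) := by decide +kernel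

theorem centX_mul : ∀ m, m * xM = xM * m → ∀ n, n * xM = xM * n →
    m * n * xM = xM * (m * n) := by decide +kernel

/-- A finite set closed under multiplication is a subgroup. -/
def subOf (p : Mdl → Prop) (h1 : p 1) (hm : ∀ m, p m → ∀ n, p n → p (m * n)) : Subgroup Mdl where
  carrier := {m | p m}
  one_mem' := h1
  mul_mem' := fun ha hb => hm _ ha _ hb
  inv_mem' := fun {m} ha => by
    have hpow : ∀ k : ℕ, p (m ^ k) := fun k => by
      induction k with
      | zero => rw [pow_zero]; exact h1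
      | succ k ih => rw [pow_succ]; exact hm _ ih _ ha
    show p m⁻¹
    rw [inv_eq_of_mul_eq_one_right
      (show m * m ^ (orderOf m - 1) = 1 by
        rw [← pow_succ', Nat.sub_add_cancel (orderOf_pos m), pow_orderOf_eq_one])]
    exact hpow _

/-- Representatives of the classes of the elements of order dividing six. -/
def kind (m : Mdl) : Fin 4 :=
  if m = 1 then 0 else if m * m = 1 then 1 else if m ^ 3 = 1 then 2 else 3

theorem conj_six : ∀ m : Mdl, m ^ 6 = 1 → m * m ≠ 1 → m ^ 3 ≠ 1 →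
    ∃ n : Mdl, n * (τM * xM) = m * n := by decide +kernel

theorem kinds :
    (∀ m, fixFour m ∧ m * m = 1 → m ^ 6 = 1) ∧ (∀ m, fixFour m → m ^ 6 = 1) ∧
    (∀ m, m * xM = xM * m → m ^ 6 = 1) ∧
    (∀ m, m * xM = xM * m ∨ m * xM = xM⁻¹ * m → m ^ 6 = 1) := by decide +kernel

theorem kind_counts :
    (∀ i, (Finset.univ.filter fun m => (fixFour m ∧ m * m = 1) ∧ kind m = i).card = ![1, 7, 0, 0] i) ∧
    (∀ i, (Finset.univ.filter fun m => fixFour m ∧ kind m = i).card = ![1, 7, 8, 8] i) ∧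
    (∀ i, (Finset.univ.filter fun m => m * xM = xM * m ∧ kind m = i).card = ![1, 1, 2, 2] i) ∧
    (∀ i, (Finset.univ.filter fun m => (m * xM = xM * m ∨ m * xM = xM⁻¹ * m) ∧ kind m = i).card =
      ![1, 7, 2, 2] i) := by decide +kernel

theorem conj_x_inv : ∃ n : Mdl, n * xM = xM⁻¹ * n := by decide +kernel

namespace Cen

variable {G : Type*} [Group G] [Finite G] {t : G} (D : Cen t)

/-- The embedding of the model. -/
def valHom : Mdl →* G where
  toFun := D.val
  map_one' := D.val_one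
  map_mul' := D.val_mul

include D

theorem class_value [IsSimpleGroup G] (χ : IrrCharacter G) (m : Mdl) (h6 : m ^ 6 = 1) :
    (χ : G → ℂ) (D.val m) = ![(χ : G → ℂ) 1, (χ : G → ℂ) t, (χ : G → ℂ) (D.val xM),
      (χ : G → ℂ) (t * D.val xM)] (kind m) := by
  have hconj : ∀ {a n : Mdl}, n * a = m * n → (χ : G → ℂ) (D.val m) = (χ : G → ℂ) (D.val a) := by
    intro a n h
    rw [← isClassFunction_irr χ (D.val a) (D.val n)]
    refine congrArg _ ?_
    rw [eq_mul_inv_iff_mul_eq, ← D.val_mul, ← D.val_mul, h]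
  unfold kind
  split_ifs with h1 h2 h3
  · subst h1
    rw [D.val_one]
    rfl
  · have ho : orderOf (D.val m) = 2 := orderOf_eq_prime (hp := ⟨Nat.prime_two⟩)
      (by rw [pow_two, ← D.val_mul, h2, D.val_one])
      fun e => h1 (D.val_inj (e.trans D.val_one.symm))
    obtain ⟨g, hg⟩ := isConj_iff.1 (D.fusion.1 _ ho)
    rw [← hg, isClassFunction_irr χ t g]
    rfl
  · obtain ⟨n, hn⟩ := conj_three m h3 h1
    exact hconj hn
  · obtain ⟨n, hn⟩ := conj_six m h6 h2 h3
    rw [hconj hn, D.val_mul, D.val_tau]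
    rfl

/-- The sum over a subgroup. -/
theorem sum_sub [IsSimpleGroup G] (χ : IrrCharacter G) (p : Mdl → Prop) [DecidablePred p]
    (h1 : p 1) (hm : ∀ m, p m → ∀ n, p n → p (m * n)) (h6 : ∀ m, p m → m ^ 6 = 1)
    [Fintype (subOf p h1 hm)] {n : Fin 4 → ℕ}
    (hn : ∀ i, (Finset.univ.filter fun m => p m ∧ kind m = i).card = n i) :
    ∑ x : subOf p h1 hm, (χ : G → ℂ) (D.val x) = n 0 * (χ : G → ℂ) 1 + n 1 * (χ : G → ℂ) t +
      n 2 * (χ : G → ℂ) (D.val xM) + n 3 * (χ : G → ℂ) (t * D.val xM) ∧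
    Fintype.card (subOf p h1 hm) = n 0 + n 1 + n 2 + n 3 := by
  classical
  have hmem : ∀ m : Mdl, m ∈ Finset.univ.filter p ↔ m ∈ subOf p h1 hm := fun m => by
    simp only [Finset.mem_filter, Finset.mem_univ, true_and]
    rfl
  have hs : ∀ {M : Type} [AddCommMonoid M] (f : Fin 4 → M),
      ∑ m ∈ Finset.univ.filter p, f (kind m) = ∑ i, n i • f i := by
    intro M _ f
    rw [← Finset.sum_fiberwise (Finset.univ.filter p) kind]
    refine Finset.sum_congr rfl fun i _ => ?_
    rw [Finset.sum_congr rfl (g := fun _ => f i) fun m hm' => by rw [(Finset.mem_filter.1 hm').2],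
      Finset.sum_const, Finset.filter_filter, hn i]
  constructor
  · rw [← Finset.sum_subtype (Finset.univ.filter p) hmem fun m => (χ : G → ℂ) (D.val m),
      Finset.sum_congr rfl fun m hm' => D.class_value χ m (h6 m (Finset.mem_filter.1 hm').2), hs]
    simp [Fin.sum_univ_four]
  · rw [Fintype.card_of_subtype (Finset.univ.filter p) hmem, Finset.card_eq_sum_ones,
      hs (fun _ => 1)]
    simp [Fin.sum_univ_four]

/-- Relations between the values of a character. -/
theorem three_bounds [IsSimpleGroup G] (χ : IrrCharacter G) {A T : ℤ}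
    (hA : (χ : G → ℂ) t = A) (hT : (χ : G → ℂ) (t * D.val xM) = T) :
    ∃ X : ℤ, ∃ k n n' m m' : ℕ, (χ : G → ℂ) (D.val xM) = X ∧ n ≤ k ∧ n' ≤ m ∧
      (charDegree (χ : G → ℂ) : ℤ) + 7 * A = 8 * k ∧
      (charDegree (χ : G → ℂ) : ℤ) + 7 * A + 8 * X + 8 * T = 24 * n ∧
      (charDegree (χ : G → ℂ) : ℤ) + 7 * A + 2 * X + 2 * T = 12 * n' ∧
      (charDegree (χ : G → ℂ) : ℤ) + A + 2 * X + 2 * T = 6 * m ∧
      (charDegree (χ : G → ℂ) : ℤ) + A - X - T = 6 * m' := by
  classical
  have hc := isCharacter_comp D.valHom (isCharacter_of_irr χ.2)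
  obtain ⟨kE, k4, kK, kD⟩ := kinds
  obtain ⟨cE, c4, cK, cD⟩ := kind_counts
  set E := subOf (fun m => fixFour m ∧ m * m = 1) ⟨rfl, rfl⟩ eight_mul
  set F := subOf fixFour rfl fixFour_mul
  set K := subOf (fun m => m * xM = xM * m) (by simp) centX_mul
  set N := subOf (fun m => m * xM = xM * m ∨ m * xM = xM⁻¹ * m) (by simp) normX_mul
  obtain ⟨k, n, hnk, hk, hn⟩ := sum_char_le hc (A := E) (B := F) fun m hm => hm.1
  obtain ⟨m, n', hnm, hm, hn'⟩ := sum_char_le hc (A := K) (B := N) fun m hm => Or.inl hm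
  obtain ⟨sE, oE⟩ := D.sum_sub χ (fun m => fixFour m ∧ m * m = 1) ⟨rfl, rfl⟩ eight_mul kE (n := ![1, 7, 0, 0]) cE
  obtain ⟨s4, o4⟩ := D.sum_sub χ fixFour rfl fixFour_mul k4 (n := ![1, 7, 8, 8]) c4
  obtain ⟨sK, oK⟩ := D.sum_sub χ (fun m => m * xM = xM * m) (by simp) centX_mul kK (n := ![1, 1, 2, 2]) cK
  obtain ⟨sN, oN⟩ := D.sum_sub χ (fun m => m * xM = xM * m ∨ m * xM = xM⁻¹ * m) (by simp) normX_mul kD (n := ![1, 7, 2, 2]) cD
  simp only [valHom, MonoidHom.coe_mk, OneHom.coe_mk] at hk hn hm hn'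
  rw [sE, oE] at hk
  rw [s4, o4] at hn
  rw [sK, oK] at hm
  rw [sN, oN] at hn'
  simp only [Matrix.cons_val_zero, Matrix.cons_val_one, Matrix.cons_val_two, Matrix.cons_val_three,
    Matrix.head_cons, Matrix.tail_cons, hA, hT, deg_eq] at hk hn hm hn'
  push_cast at hk hn hm hn'
  -- the eigenvalue `ω` of an element of order six
  have hx3 := xM_pow.1
  have hpw : ∀ j, (t * D.val xM) ^ j = D.val ((τM * xM) ^ j) := fun j => by
    rw [D.val_pow, D.val_mul, D.val_tau]
  have h2 : (χ : G → ℂ) (D.val (xM * xM)) = (χ : G → ℂ) (D.val xM) := by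
    obtain ⟨a, ha⟩ := conj_x_inv
    rw [← isClassFunction_irr χ (D.val xM) (D.val a)]
    refine congrArg _ ?_
    rw [eq_mul_inv_iff_mul_eq, ← D.val_mul, ← D.val_mul, ha,
      show (xM⁻¹ : Mdl) = xM * xM from inv_eq_of_mul_eq_one_right (by rw [← mul_assoc, ← hx3]; rfl)]
  have hpows : (τM * xM : Mdl) ^ 2 = xM * xM ∧ (τM * xM : Mdl) ^ 3 = τM ∧
      (τM * xM : Mdl) ^ 4 = xM ∧ (τM * xM : Mdl) ^ 5 = τM * (xM * xM) ∧
      (τM * xM : Mdl) ^ 6 = 1 ∧ ∃ a : Mdl, a * xM = xM * xM * a := by decide +kernel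
  obtain ⟨q2, q3, q4, q5, q6, a, ha⟩ := hpows
  obtain ⟨m', hm'⟩ := exists_multiplicity (isCharacter_of_irr χ.2) (t * D.val xM)
    (n := 6) (by norm_num) (by rw [hpw, q6, D.val_one]) EightSolvCent.om
    (by simpa using EightSolvCent.om_pow_six 1)
  simp only [Finset.sum_range_succ, Finset.sum_range_zero, pow_zero, pow_one, zero_add] at hm'
  rw [hpw 2, hpw 3, hpw 4, hpw 5, q2, q3, q4, q5, h2, D.val_tau, deg_eq, hA, hT, D.val_mul,
    D.val_tau] at hm'
  have h5 : (χ : G → ℂ) (t * D.val (xM * xM)) = (T : ℂ) := by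
    rw [← hT, ← isClassFunction_irr χ (t * D.val xM) (D.val a)]
    refine congrArg _ ?_
    rw [← mul_assoc, D.commute_val, eq_mul_inv_iff_mul_eq, mul_assoc, mul_assoc, ← D.val_mul,
      ← D.val_mul, ha]
  rw [h5] at hm'
  have hX : (χ : G → ℂ) (D.val xM) = (((charDegree (χ : G → ℂ) : ℤ) + A - T - 6 * m' : ℤ) : ℂ) := by
    push_cast
    linear_combination -hm' + (T : ℂ) * EightSolvCent.om_sum + (χ : G → ℂ) (D.val xM) * EightSolvCent.om_sum + ((A : ℂ) + EightSolvCent.om ^ 2 * T + EightSolvCent.om * (χ : G → ℂ) (D.val xM)) * EightSolvCent.om_pow_three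
  refine ⟨(charDegree (χ : G → ℂ) : ℤ) + A - T - 6 * m', k, n, n', m, m', hX, hnk, hnm, ?_, ?_, ?_,
    ?_, by ring⟩
  all_goals
    apply Int.cast_injective (α := ℂ)
    push_cast at hX ⊢
  · linear_combination hk
  · linear_combination hn - 8 * hX
  · linear_combination hn' - 2 * hX
  · linear_combination hm - 2 * hX

end Cen

end CfsgLib.JanOrder
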