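import Cfsg.Agent.Lib.JanOrder.Setup
import Cfsg.Agent.Lib.JanOrder.Classify
import Cfsg.Agent.Lib.JanOrder.Exclude
import Cfsg.Agent.Lib.EightSolvCent.Omega
import Cfsg.Agent.Lib.CharApps.Basic
import Cfsg.Agent.Lib.CharApps.ClassCount

/-!
# The characters on the involution section
-/

set_option autoImplicit false
set_option linter.style.haveILetI false
set_option linter.unusedSectionVars false
set_option maxHeartbeats 800000

namespace CfsgLib.JanOrder

open Cfsg CfsgLib.Base CfsgLib.Chars CfsgLib.CharApps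
open scoped ComplexConjugate

/-- A primitive fifth root of unity. -/
noncomputable def rt5 : ℂ := Complex.exp (2 * Real.pi * Complex.I / 5)

theorem rt5_pow : rt5 ^ 5 = 1 := by
  simpa [rt5] using (Complex.isPrimitiveRoot_exp 5 (by norm_num)).pow_eq_one

theorem rt5_sum : 1 + rt5 + rt5 ^ 2 + rt5 ^ 3 + rt5 ^ 4 = 0 := by
  have h := (Complex.isPrimitiveRoot_exp 5 (by norm_num)).geom_sum_eq_zero (by norm_num)
  simpa [rt5, Finset.sum_range_succ] using h

/-- The two periods. -/
noncomputable def per1 : ℂ := rt5 + rt5 ^ 4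

/-- The other period. -/
noncomputable def per2 : ℂ := rt5 ^ 2 + rt5 ^ 3

theorem per_add : per1 + per2 = -1 := by
  unfold per1 per2
  linear_combination rt5_sum

theorem per_mul : per1 * per2 = -1 := by
  unfold per1 per2
  linear_combination rt5_sum + (rt5 + rt5 ^ 2) * rt5_pow

namespace Cen

variable {G : Type*} [Group G] [Finite G] {t : G} (D : Cen t)

/-- The value of a character at a representative of the section. -/
def sval (χ : IrrCharacter G) (i : Fin 4) : ℂ := (χ : G → ℂ) (t * D.val (repM i))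

include D

theorem sval_zero (χ : IrrCharacter G) : D.sval χ 0 = (χ : G → ℂ) t := by
  show (χ : G → ℂ) (t * D.val 1) = _
  rw [D.val_one, mul_one]

theorem sval_real (χ : IrrCharacter G) (i : Fin 4) : conj (D.sval χ i) = D.sval χ i := by
  obtain ⟨u, hu⟩ := isConj_iff.1 (D.isConj_inv i)
  rw [sval, ← irr_inv, ← hu, isClassFunction_irr χ]

theorem orth [Fintype (IrrCharacter G)] (i j : Fin 4) :
    ∑ χ : IrrCharacter G, D.sval χ i * D.sval χ j = if i = j then (repCard i : ℂ) else 0 := by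
  classical
  have h := second_orthogonality (t * D.val (repM i)) (t * D.val (repM j))
  rw [D.card_centralizer i] at h
  by_cases e : i = j
  · subst e
    rw [if_pos rfl]
    rw [if_pos (IsConj.refl _)] at h
    rw [← h]
    exact Finset.sum_congr rfl fun χ _ => congrArg _ (D.sval_real χ i).symm
  · rw [if_neg e]
    rw [if_neg (D.not_isConj (Ne.symm e))] at h
    rw [← h]
    exact Finset.sum_congr rfl fun χ _ => congrArg _ (D.sval_real χ j).symm

theorem orth_one [Fintype (IrrCharacter G)] (i : Fin 4) :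
    ∑ χ : IrrCharacter G, (χ : G → ℂ) 1 * D.sval χ i = 0 := by
  classical
  refine (sum_degree_mul (t * D.val (repM i))).trans (if_neg fun h => ?_)
  have h2 : t ^ 15 = 1 := by
    have h' := congrArg (· ^ 15) h
    simpa [(show Commute t (D.val (repM i)) from (D.commute_val _).symm).mul_pow, ← D.val_pow,
      pow_fifteen, D.val_one] using h'
  rw [pow_succ, show (14 : ℕ) = 2 * 7 from rfl, pow_mul, pow_two, D.tt, one_pow, one_mul] at h2
  exact D.ne_one h2

theorem orth_x [Fintype (IrrCharacter G)] (i : Fin 4) :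
    ∑ χ : IrrCharacter G, (χ : G → ℂ) (D.val xM) * D.sval χ i = 0 := by
  classical
  have h := second_orthogonality (D.val xM) (t * D.val (repM i))
  rw [if_neg fun hc => ?_] at h
  · rw [← h]
    exact Finset.sum_congr rfl fun χ _ => congrArg _ (D.sval_real χ i).symm
  · obtain ⟨u, hu⟩ := isConj_iff.1 hc
    have h' := congrArg (· ^ 15) hu
    simp only [conj_pow, (show Commute t (D.val (repM i)) from (D.commute_val _).symm).mul_pow,
      ← D.val_pow, pow_fifteen, D.val_one, mul_one] at h'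
    rw [show xM ^ 15 = (1 : Mdl) by rw [show (15 : ℕ) = 3 * 5 from rfl, pow_mul, xM_pow.1, one_pow],
      D.val_one, mul_inv_eq_one, mul_eq_left, pow_succ, show (14 : ℕ) = 2 * 7 from rfl, pow_mul,
      pow_two, D.tt, one_pow, one_mul] at h'
    exact D.ne_one h'

theorem val_conj {m m' n : Mdl} (h : n * m = m' * n) (χ : IrrCharacter G) :
    (χ : G → ℂ) (t * D.val m) = (χ : G → ℂ) (t * D.val m') := by
  rw [← isClassFunction_irr χ (t * D.val m) (D.val n)]
  refine congrArg _ ?_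
  rw [← mul_assoc, D.commute_val, mul_inv_eq_iff_eq_mul, mul_assoc, mul_assoc, ← D.val_mul,
    ← D.val_mul, h]

theorem odd_pow {m : Mdl} {k : ℕ} (hk : Odd k) : (t * D.val m) ^ k = t * D.val (m ^ k) := by
  obtain ⟨j, rfl⟩ := hk
  rw [(show Commute t (D.val m) from (D.commute_val _).symm).mul_pow, D.val_pow,
    pow_succ t, pow_mul, pow_two, D.tt, one_pow, one_mul]

theorem even_pow {m : Mdl} {k : ℕ} (hk : Even k) : (t * D.val m) ^ k = D.val (m ^ k) := by
  obtain ⟨j, rfl⟩ := hk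
  rw [(show Commute t (D.val m) from (D.commute_val _).symm).mul_pow, D.val_pow, ← two_mul,
    pow_mul t, pow_two, D.tt, one_pow, one_mul]

theorem exists_ints (χ : IrrCharacter G) : ∃ A B₁ B₂ C : ℤ,
    D.sval χ 0 = (A : ℂ) ∧ D.sval χ 0 + per1 * D.sval χ 2 + per2 * D.sval χ 3 = 5 * (B₁ : ℂ) ∧
    D.sval χ 0 + per2 * D.sval χ 2 + per1 * D.sval χ 3 = 5 * (B₂ : ℂ) ∧
    D.sval χ 0 - D.sval χ 1 = 3 * (C : ℂ) := by
  have hc := isCharacter_of_irr χ.2
  obtain ⟨hz5, -, ⟨n4, h4⟩, ⟨n3, h3⟩⟩ := zM_pow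
  obtain ⟨hx3, -⟩ := xM_pow
  have ht2 : t ^ 2 = 1 := by rw [pow_two, D.tt]
  -- order two
  obtain ⟨m₀, hm₀⟩ := exists_multiplicity hc t two_pos ht2 1 (one_pow _)
  simp only [one_pow, one_mul] at hm₀
  rw [show (Finset.range 2 : Finset ℕ) = Finset.range (1 + 1) from rfl, Finset.sum_range_succ,
    Finset.sum_range_one, pow_zero, pow_one, deg_eq] at hm₀
  push_cast at hm₀
  -- order ten
  set f : ℕ → ℂ := fun k => (χ : G → ℂ) ((t * D.val zM) ^ k) with hf
  have hz10 : (t * D.val zM) ^ 10 = 1 := by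
    rw [D.even_pow (by decide : Even 10), show (10 : ℕ) = 5 * 2 from rfl, pow_mul, hz5, one_pow, D.val_one]
  have hf1 : f 1 = D.sval χ 2 := by simp only [hf, pow_one]; rfl
  have hf5 : f 5 = D.sval χ 0 := by
    simp only [hf]; rw [D.odd_pow (by decide : Odd 5), hz5, D.val_one, mul_one, D.sval_zero]
  have hf3 : f 3 = D.sval χ 3 := by
    simp only [hf]; rw [D.odd_pow (by decide : Odd 3), ← D.val_conj h3 χ]; rfl
  have hf7 : f 7 = D.sval χ 3 := by
    simp only [hf]
    rw [D.odd_pow (by decide : Odd 7), show (7 : ℕ) = 5 + 2 from rfl, pow_add, hz5, one_mul, pow_two]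
    rfl
  have hf9 : f 9 = D.sval χ 2 := by
    simp only [hf]
    rw [D.odd_pow (by decide : Odd 9), show (9 : ℕ) = 5 + 4 from rfl, pow_add, hz5, one_mul,
      ← D.val_conj h4 χ]
    rfl
  have hsum : ∀ ξ : ℂ, ξ ^ 5 = 1 → ∃ B : ℤ,
      D.sval χ 0 + (ξ + ξ ^ 4) * D.sval χ 2 + (ξ ^ 3 + ξ ^ 2) * D.sval χ 3 = 5 * (B : ℂ) := by
    intro ξ hξ
    obtain ⟨m, hm⟩ := exists_multiplicity hc _ (by norm_num) hz10 ξ
      (by rw [show (10 : ℕ) = 5 * 2 from rfl, pow_mul, hξ, one_pow])
    obtain ⟨m', hm'⟩ := exists_multiplicity hc _ (by norm_num) hz10 (-ξ)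
      (by rw [show (10 : ℕ) = 2 * 5 from rfl, pow_mul, neg_sq, ← pow_mul, show 2 * 5 = 5 * 2 from rfl,
        pow_mul, hξ, one_pow])
    change ∑ k ∈ Finset.range 10, ξ ^ k * f k = _ at hm
    change ∑ k ∈ Finset.range 10, (-ξ) ^ k * f k = _ at hm'
    simp only [Finset.sum_range_succ, Finset.sum_range_zero, hf1, hf3, hf5, hf7, hf9] at hm hm'
    refine ⟨(m : ℤ) - m', ?_⟩
    push_cast at hm hm' ⊢
    linear_combination hm / 2 - hm' / 2 -
      (D.sval χ 0 + ξ ^ 2 * D.sval χ 3 + ξ ^ 4 * D.sval χ 2) * hξ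
  obtain ⟨B₁, hB₁⟩ := hsum rt5 rt5_pow
  obtain ⟨B₂, hB₂⟩ := hsum (rt5 ^ 2) (by rw [← pow_mul, mul_comm, pow_mul, rt5_pow, one_pow])
  -- order six
  set h : ℕ → ℂ := fun k => (χ : G → ℂ) ((t * D.val xM) ^ k) with hh
  have hx6 : (t * D.val xM) ^ 6 = 1 := by
    rw [D.even_pow (by decide : Even 6), show (6 : ℕ) = 3 * 2 from rfl, pow_mul, hx3, one_pow, D.val_one]
  have hh1 : h 1 = D.sval χ 1 := by simp only [hh, pow_one]; rfl
  have hh3 : h 3 = D.sval χ 0 := by
    simp only [hh]; rw [D.odd_pow (by decide : Odd 3), hx3, D.val_one, mul_one, D.sval_zero]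
  have hh5 : h 5 = D.sval χ 1 := by
    obtain ⟨n, hn⟩ := conj_inv 1
    simp only [hh]
    rw [D.odd_pow (by decide : Odd 5)]
    have e : (xM : Mdl) ^ 5 = (repM 1)⁻¹ := by
      rw [eq_inv_iff_mul_eq_one]
      show xM ^ 5 * xM = 1
      rw [← pow_succ, show (5 + 1 : ℕ) = 3 * 2 from rfl, pow_mul, hx3, one_pow]
    rw [e, ← D.val_conj hn χ]
    rfl
  obtain ⟨m, hm⟩ := exists_multiplicity hc _ (by norm_num) hx6 EightSolvCent.om
    (by simpa using EightSolvCent.om_pow_six 1)
  obtain ⟨m', hm'⟩ := exists_multiplicity hc _ (by norm_num) hx6 (-EightSolvCent.om)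
    (by simpa using EightSolvCent.neg_om_pow_six 1)
  change ∑ k ∈ Finset.range 6, EightSolvCent.om ^ k * h k = _ at hm
  change ∑ k ∈ Finset.range 6, (-EightSolvCent.om) ^ k * h k = _ at hm'
  simp only [Finset.sum_range_succ, Finset.sum_range_zero, hh1, hh3, hh5] at hm hm'
  refine ⟨2 * (m₀ : ℤ) - (charDegree (χ : G → ℂ) : ℤ), B₁, B₂, (m : ℤ) - m', ?_, ?_, ?_, ?_⟩
  · rw [D.sval_zero]
    push_cast
    linear_combination hm₀
  · rw [← hB₁]; unfold per1 per2; ring
  · rw [← hB₂]; unfold per1 per2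
    linear_combination -(rt5 ^ 3 * D.sval χ 2 + rt5 * D.sval χ 3) * rt5_pow
  · push_cast at hm hm' ⊢
    linear_combination hm / 2 - hm' / 2 -
      (D.sval χ 0 + EightSolvCent.om ^ 2 * D.sval χ 1) * EightSolvCent.om_pow_three -
      D.sval χ 1 * EightSolvCent.om_sum

/-- The number of pairs of conjugate involutions over each representative. -/
theorem count [IsSimpleGroup G] [Fintype (IrrCharacter G)] (i : Fin 4) :
    (Nat.card G : ℂ) * ∑ χ : IrrCharacter G,
      D.sval χ 0 * D.sval χ 0 * D.sval χ i / (χ : G → ℂ) 1 =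
      14400 * (repPairs i : ℂ) := by
  classical
  haveI := Fintype.ofFinite G
  have hinv : ∀ v : G, orderOf v = 2 → v⁻¹ = v := fun v hv =>
    inv_eq_of_mul_eq_one_right (by rw [← pow_two, ← hv, pow_orderOf_eq_one])
  set y := t * D.val (repM i) with hy
  have h := card_conj_mul_conj t t y
  have hto : ∀ a : G, orderOf (a * t * a⁻¹) = 2 := fun a => by
    rw [← MulAut.conj_apply, MulEquiv.orderOf_eq, D.ord]
  have hij : ∀ {i j z : G}, orderOf i = 2 → i * j = z → j = i * z := fun {i j z} hi e => by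
    rw [← e, ← mul_assoc, ← pow_two, ← hi, pow_orderOf_eq_one, one_mul]
  let E : {ab : G × G // ab.1 * t * ab.1⁻¹ * (ab.2 * t * ab.2⁻¹) = y} ≃
      Σ v : {v : G // orderOf v = 2 ∧ orderOf (v * y) = 2},
        {a : G // a * t * a⁻¹ = v.1} × {b : G // b * t * b⁻¹ = v.1 * y} :=
    { toFun := fun ab => ⟨⟨ab.1.1 * t * ab.1.1⁻¹, hto _,
          (congrArg orderOf (hij (hto ab.1.1) ab.2)).symm.trans (hto ab.1.2)⟩,
        ⟨ab.1.1, rfl⟩, ⟨ab.1.2, hij (hto ab.1.1) ab.2⟩⟩
      invFun := fun s => ⟨(s.2.1.1, s.2.2.1), by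
        show s.2.1.1 * t * s.2.1.1⁻¹ * (s.2.2.1 * t * s.2.2.1⁻¹) = y
        rw [s.2.1.2, s.2.2.2, ← mul_assoc]
        conv_lhs => enter [1, 1]; rw [← hinv _ s.1.2.1]
        rw [inv_mul_cancel, one_mul]⟩
      left_inv := fun _ => rfl
      right_inv := fun s => by
        obtain ⟨⟨v, hv⟩, ⟨a, ha⟩, ⟨b, hb⟩⟩ := s
        have ha' : a * t * a⁻¹ = v := ha
        subst ha'
        rfl }
  have hfib : ∀ v : {v : G // orderOf v = 2 ∧ orderOf (v * y) = 2},
      Nat.card ({a : G // a * t * a⁻¹ = v.1} × {b : G // b * t * b⁻¹ = v.1 * y}) = 14400 := fun v => by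
    rw [Nat.card_prod, card_conj_fiber t (D.fusion.1 _ v.2.1),
      card_conj_fiber t (D.fusion.1 _ v.2.2), D.card_tCen]
  have hN : Nat.card {ab : G × G // ab.1 * t * ab.1⁻¹ * (ab.2 * t * ab.2⁻¹) = y} =
      14400 * repPairs i := by
    haveI := Fintype.ofFinite {v : G // orderOf v = 2 ∧ orderOf (v * y) = 2}
    rw [Nat.card_congr E, Nat.card_sigma, Finset.sum_congr rfl fun v _ => hfib v, Finset.sum_const,
      Finset.card_univ, ← Nat.card_eq_fintype_card, hy, D.card_pairs' i, smul_eq_mul, mul_comm]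
  rw [hN] at h
  push_cast at h
  rw [h]
  congr 1
  refine Finset.sum_congr rfl fun χ _ => ?_
  rw [D.sval_zero, sval, ← hy, irr_inv χ y]
  congr 2
  exact (D.sval_real χ i).symm

/-- **Janko's order formula.** -/
theorem card_eq [IsSimpleGroup G] : Nat.card G = 175560 := by
  classical
  haveI := Fintype.ofFinite G
  haveI := irrFintype G
  choose A B₁ B₂ C hA hB₁ hB₂ hC using fun χ => D.exists_ints χ
  set c0 : IrrCharacter G → ℤ := fun χ => A χ - B₁ χ - B₂ χ - 2 * C χ with hc0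
  set c1 : IrrCharacter G → ℤ := fun χ => B₂ χ - C χ with hc1
  set c2 : IrrCharacter G → ℤ := fun χ => B₁ χ - C χ with hc2
  set w : IrrCharacter G → ℤ := fun χ => B₁ χ + B₂ χ - C χ with hw
  set d : IrrCharacter G → ℤ := fun χ => (charDegree (χ : G → ℂ) : ℤ) with hd
  have hrow : ∀ χ, rowVal c0 c1 c2 w χ = A χ := fun χ => by
    simp only [rowVal, hc0, hc1, hc2, hw]; ring
  -- the combinations
  set L0 : Fin 4 → ℂ := ![1 - 2 / 5 - 2 / 3, 2 / 3, 1 / 5, 1 / 5] with hL0
  set L1 : Fin 4 → ℂ := ![1 / 5 - 1 / 3, 1 / 3, per2 / 5, per1 / 5] with hL1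
  set L2 : Fin 4 → ℂ := ![1 / 5 - 1 / 3, 1 / 3, per1 / 5, per2 / 5] with hL2
  set L3 : Fin 4 → ℂ := ![2 / 5 - 1 / 3, 1 / 3, -(1 / 5), -(1 / 5)] with hL3
  have hlin : ∀ (c : IrrCharacter G → ℤ) (L : Fin 4 → ℂ),
      (∀ χ, (c χ : ℂ) = L 0 * D.sval χ 0 + L 1 * D.sval χ 1 + L 2 * D.sval χ 2 + L 3 * D.sval χ 3) →
      ∀ (c' : IrrCharacter G → ℤ) (L' : Fin 4 → ℂ),
      (∀ χ, (c' χ : ℂ) = L' 0 * D.sval χ 0 + L' 1 * D.sval χ 1 + L' 2 * D.sval χ 2 + L' 3 * D.sval χ 3) →
      ((∑ χ, c χ * c' χ : ℤ) : ℂ) = 120 * L 0 * L' 0 + 6 * L 1 * L' 1 + 10 * L 2 * L' 2 +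
        10 * L 3 * L' 3 := by
    intro c L hcL c' L' hcL'
    push_cast
    simp only [hcL, hcL', add_mul, mul_add, Finset.sum_add_distrib]
    have key : ∀ i j : Fin 4, ∑ χ : IrrCharacter G, L i * D.sval χ i * (L' j * D.sval χ j) =
        L i * L' j * if i = j then (repCard i : ℂ) else 0 := fun i j => by
      rw [← D.orth i j, Finset.mul_sum]
      exact Finset.sum_congr rfl fun χ _ => by ring
    simp only [key]
    simp [repCard]
    ring
  have hdeg : ∀ (c : IrrCharacter G → ℤ) (L : Fin 4 → ℂ),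
      (∀ χ, (c χ : ℂ) = L 0 * D.sval χ 0 + L 1 * D.sval χ 1 + L 2 * D.sval χ 2 + L 3 * D.sval χ 3) →
      ∑ χ, c χ * d χ = 0 := by
    intro c L hcL
    apply Int.cast_injective (α := ℂ)
    have key : ∀ i : Fin 4, ∑ χ : IrrCharacter G, L i * D.sval χ i * (χ : G → ℂ) 1 = 0 := fun i => by
      rw [show (0 : ℂ) = L i * 0 from (mul_zero _).symm, ← D.orth_one i, Finset.mul_sum]
      exact Finset.sum_congr rfl fun χ _ => by ring
    push_cast
    simp only [hcL, hd, Int.cast_natCast, ← deg_eq, add_mul, Finset.sum_add_distrib, key, add_zero]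
  have e0 : ∀ χ, (c0 χ : ℂ) = L0 0 * D.sval χ 0 + L0 1 * D.sval χ 1 + L0 2 * D.sval χ 2 +
      L0 3 * D.sval χ 3 := fun χ => by
    simp [hc0, hL0]
    linear_combination -(hA χ) + hB₁ χ / 5 + hB₂ χ / 5 + 2 / 3 * hC χ -
      (1 / 5 * D.sval χ 2 + 1 / 5 * D.sval χ 3) * per_add
  have e1 : ∀ χ, (c1 χ : ℂ) = L1 0 * D.sval χ 0 + L1 1 * D.sval χ 1 + L1 2 * D.sval χ 2 +
      L1 3 * D.sval χ 3 := fun χ => by
    simp [hc1, hL1]
    linear_combination -(hB₂ χ) / 5 + 1 / 3 * hC χ
  have e2 : ∀ χ, (c2 χ : ℂ) = L2 0 * D.sval χ 0 + L2 1 * D.sval χ 1 + L2 2 * D.sval χ 2 +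
      L2 3 * D.sval χ 3 := fun χ => by
    simp [hc2, hL2]
    linear_combination -(hB₁ χ) / 5 + 1 / 3 * hC χ
  have e3 : ∀ χ, (w χ : ℂ) = L3 0 * D.sval χ 0 + L3 1 * D.sval χ 1 + L3 2 * D.sval χ 2 +
      L3 3 * D.sval χ 3 := fun χ => by
    simp [hw, hL3]
    linear_combination -(hB₁ χ) / 5 - hB₂ χ / 5 + 1 / 3 * hC χ +
      (1 / 5 * D.sval χ 2 + 1 / 5 * D.sval χ 3) * per_add
  -- the principal character
  have hpv : ∀ i, D.sval (principal G) i = 1 := fun i => principal_apply _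
  have hp : c0 (principal G) = 1 ∧ c1 (principal G) = 0 ∧ c2 (principal G) = 0 ∧
      w (principal G) = 0 := by
    have p0 := e0 (principal G)
    have p1 := e1 (principal G)
    have p2 := e2 (principal G)
    have p3 := e3 (principal G)
    simp only [hpv, hL0, hL1, hL2, hL3] at p0 p1 p2 p3
    refine ⟨?_, ?_, ?_, ?_⟩ <;> apply Int.cast_injective (α := ℂ)
    · rw [p0]; simp; norm_num
    · rw [p1]; simp; linear_combination (1 / 5 : ℂ) * per_add
    · rw [p2]; simp; linear_combination (1 / 5 : ℂ) * per_add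
    · rw [p3]; simp; norm_num
  have hd1 : d (principal G) = 1 := by
    simp [hd, (deg_eq_one_iff _).1 (principal_apply (G := G) 1)]
  -- degrees
  have hval : ∀ χ, χ ≠ principal G → (d χ - A χ) % 8 = 0 ∧ 0 ≤ d χ + 7 * A χ ∧ d χ ≠ A χ ∧
      d χ * d χ < (Nat.card G : ℤ) := by
    intro χ hne
    obtain ⟨S, htS, hS8, -⟩ := D.exists_sylow
    haveI := Fintype.ofFinite (S : Subgroup G)
    obtain ⟨k, hk⟩ := inner_irr_right_nat
      (isCharacter_restrict (S : Subgroup G) (isCharacter_of_irr χ.2)) (principal (S : Subgroup G))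
    have hother : ∀ y : (S : Subgroup G), y ≠ 1 → (χ : G → ℂ) y = (A χ : ℂ) := by
      intro y hy
      have ho : orderOf (y : G) = 2 := by
        obtain ⟨S', hS'⟩ : ∃ S' : Sylow 2 G, (S' : Subgroup G) = (S : Subgroup G) := ⟨S, rfl⟩
        refine orderOf_eq_prime (hp := ⟨Nat.prime_two⟩) ?_ fun e => hy (Subtype.ext e)
        obtain ⟨m, hm⟩ := IsPGroup.iff_card.1 S.2
        obtain ⟨S₀, -, h8, hel⟩ := D.exists_sylow
        obtain ⟨g, hg⟩ := MulAction.exists_smul_eq G S S₀
        have hmem : g * (y : G) * g⁻¹ ∈ (S₀ : Subgroup G) := by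
          rw [← hg, Sylow.coe_subgroup_smul]
          exact Subgroup.smul_mem_pointwise_smul (y : G) (MulAut.conj g) _ y.2
        have h2 := hel.2 _ hmem
        rw [conj_pow, mul_inv_eq_one, mul_eq_left] at h2
        exact h2
      obtain ⟨g, hg⟩ := isConj_iff.1 (D.fusion.1 _ ho)
      rw [← hg, isClassFunction_irr χ t g, ← hA, D.sval_zero]
    have h8 : d χ + 7 * A χ = 8 * (k : ℤ) := by
      rw [inner_def, ← Finset.add_sum_erase _ _ (Finset.mem_univ (1 : (S : Subgroup G))),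
        Finset.sum_congr rfl (g := fun _ => (A χ : ℂ)) (fun y hy => by
          rw [principal_apply, map_one, mul_one, hother y (Finset.ne_of_mem_erase hy)]),
        Finset.sum_const, Finset.card_erase_of_mem (Finset.mem_univ _), Finset.card_univ,
        ← Nat.card_eq_fintype_card, hS8, principal_apply, map_one, mul_one, Subgroup.coe_one,
        deg_eq] at hk
      apply Int.cast_injective (α := ℂ)
      simp only [hd]
      push_cast
      rw [← hk]
      norm_num
      ring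
    refine ⟨by omega, by omega, fun heq => ?_, ?_⟩
    · have hker : t ∈ charKer χ := by
        rw [mem_charKer, ← D.sval_zero, hA, deg_eq, ← heq]
        simp [hd]
      haveI := charKer_normal χ
      rcases IsSimpleGroup.eq_bot_or_eq_top_of_normal (charKer χ) (charKer_normal χ) with e | e
      · rw [e, Subgroup.mem_bot] at hker
        exact D.ne_one hker
      · have hconst : ∀ g : G, (χ : G → ℂ) g = (χ : G → ℂ) 1 := fun g =>
          mem_charKer.1 (e ▸ Subgroup.mem_top g)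
        have h0 := inner_irr_ne hne
        rw [inner_def] at h0
        simp only [hconst, principal_apply, map_one, mul_one, Finset.sum_const, Finset.card_univ,
          nsmul_eq_mul, ← Nat.card_eq_fintype_card] at h0
        exact deg_ne_zero χ
          (by simpa [(Nat.card_pos (α := G)).ne'] using h0)
    · have hs : ∑ ψ : IrrCharacter G, d ψ * d ψ = (Nat.card G : ℤ) := by
        apply Int.cast_injective (α := ℂ)
        push_cast
        rw [← sum_degree_sq (G := G)]
        exact Finset.sum_congr rfl fun ψ _ => by simp [hd, deg_eq, sq]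
      rw [← hs]
      have h2 := Finset.add_le_sum (f := fun ψ => d ψ * d ψ) (fun ψ _ => mul_self_nonneg _)
        (Finset.mem_univ (principal G)) (Finset.mem_univ χ) (Ne.symm hne)
      simp only [hd1] at h2
      omega
  -- the counting identities
  set g : ℤ := (Nat.card G : ℤ) with hg
  have hT : ∀ (c : IrrCharacter G → ℤ) (L : Fin 4 → ℂ),
      (∀ χ, (c χ : ℂ) = L 0 * D.sval χ 0 + L 1 * D.sval χ 1 + L 2 * D.sval χ 2 + L 3 * D.sval χ 3) →
      ∀ r : ℤ, L 0 * 30 + L 1 * 6 + L 2 * 10 + L 3 * 10 = (r : ℂ) →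
      (∑ χ, ((rowVal c0 c1 c2 w χ ^ 2 * c χ : ℤ) : ℝ) / (d χ : ℝ)) * g = 14400 * r := by
    intro c L hcL r hr
    apply Complex.ofReal_injective
    push_cast
    simp only [hrow, hcL, hd, hg, Int.cast_natCast, ← deg_eq, ← hA]
    have key : ∀ i : Fin 4, ∑ χ : IrrCharacter G,
        D.sval χ 0 ^ 2 * (L i * D.sval χ i) / (χ : G → ℂ) 1 * (Nat.card G : ℂ) =
          L i * (14400 * (repPairs i : ℂ)) := fun i => by
      rw [← D.count i, Finset.mul_sum, Finset.mul_sum]
      exact Finset.sum_congr rfl fun χ _ => by ring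
    rw [Finset.sum_mul, ← hr]
    simp only [mul_add, add_div, add_mul, Finset.sum_add_distrib, key]
    simp [repPairs]
    ring
  have R : Rows (principal G) c0 c1 c2 w d g := by
    have g00 := hlin c0 L0 e0 c0 L0 e0
    have g11 := hlin c1 L1 e1 c1 L1 e1
    have g22 := hlin c2 L2 e2 c2 L2 e2
    have g01 := hlin c0 L0 e0 c1 L1 e1
    have g02 := hlin c0 L0 e0 c2 L2 e2
    have g12 := hlin c1 L1 e1 c2 L2 e2
    have g33 := hlin w L3 e3 w L3 e3
    have g30 := hlin w L3 e3 c0 L0 e0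
    have g31 := hlin w L3 e3 c1 L1 e1
    have g32 := hlin w L3 e3 c2 L2 e2
    simp [hL0, hL1, hL2, hL3] at g00 g11 g22 g01 g02 g12 g33 g30 g31 g32
    refine
      { h00 := ?_, h11 := ?_, h22 := ?_, h01 := ?_, h02 := ?_, h12 := ?_, hww := ?_, hw0 := ?_,
        hw1 := ?_, hw2 := ?_, hp := hp, hd1 := hd1,
        hd := fun χ => by simp only [hd]; exact_mod_cast deg_pos χ,
        e0 := hdeg c0 L0 e0, e1 := hdeg c1 L1 e1, e2 := hdeg c2 L2 e2, ew := hdeg w L3 e3,
        val := fun χ hne _ => by rw [hrow]; exact hval χ hne,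
        T0 := ?_, T1 := ?_, T2 := ?_,
        g840 := Int.emod_eq_zero_of_dvd (Int.natCast_dvd_natCast.2 D.dvd_card) }
    all_goals first
      | (apply Int.cast_injective (α := ℂ)
         push_cast
         first
           | (rw [g00]; norm_num; done)
           | (rw [g11]; linear_combination (2 / 5 : ℂ) * (per1 + per2 - 1) * per_add - 4 / 5 * per_mul)
           | (rw [g22]; linear_combination (2 / 5 : ℂ) * (per1 + per2 - 1) * per_add - 4 / 5 * per_mul)
           | (rw [g01]; linear_combination (2 / 5 : ℂ) * per_add)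
           | (rw [g02]; linear_combination (2 / 5 : ℂ) * per_add)
           | (rw [g12]; linear_combination (4 / 5 : ℂ) * per_mul)
           | (rw [g33]; norm_num; done)
           | (rw [g30]; norm_num; done)
           | (rw [g31]; linear_combination -(2 / 5 : ℂ) * per_add)
           | (rw [g32]; linear_combination -(2 / 5 : ℂ) * per_add))
      | skip
    · rw [hT c0 L0 e0 6 (by simp [hL0]; norm_num)]; norm_num
    · rw [hT c1 L1 e1 (-4) (by simp [hL1]; linear_combination (2 : ℂ) * per_add)]; norm_num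
    · rw [hT c2 L2 e2 (-4) (by simp [hL2]; linear_combination (2 : ℂ) * per_add)]; norm_num
  rcases R.order with h | ⟨a, b, z, ⟨hab, haz, hbz, hap, hbp, hzp⟩, hsupp, ⟨a0, a12, aw, ad⟩,
    ⟨b0, b12, bw, bd⟩, ⟨z0, z12, zw, zd⟩⟩
  · rw [hg] at h; exact_mod_cast h
  exfalso
  have hs1 : ∀ χ, D.sval χ 1 = ((c0 χ + w χ : ℤ) : ℂ) := fun χ => by
    simp only [hc0, hw]
    push_cast
    linear_combination hA χ - hC χ
  have hb : ∀ χ : IrrCharacter G, ∃ X : ℤ, ∃ k n n' m m' : ℕ, (χ : G → ℂ) (D.val xM) = X ∧ n ≤ k ∧ n' ≤ m ∧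
      d χ + 7 * A χ = 8 * k ∧ d χ + 7 * A χ + 8 * X + 8 * (c0 χ + w χ) = 24 * n ∧
      d χ + 7 * A χ + 2 * X + 2 * (c0 χ + w χ) = 12 * n' ∧
      d χ + A χ + 2 * X + 2 * (c0 χ + w χ) = 6 * m ∧
      d χ + A χ - X - (c0 χ + w χ) = 6 * m' := fun χ =>
    D.three_bounds χ (by rw [← hA χ, D.sval_zero]) (hs1 χ)
  choose X k n n' m m' hX hnk hnm e1 e2 e3 e4 e5 using hb
  have hzero : ∑ χ, c0 χ * X χ = 0 := by
    apply Int.cast_injective (α := ℂ)
    push_cast
    simp only [← hX, e0, add_mul, Finset.sum_add_distrib]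
    have key : ∀ i : Fin 4, ∑ χ : IrrCharacter G, L0 i * D.sval χ i * (χ : G → ℂ) (D.val xM) = 0 :=
      fun i => by
        rw [show (0 : ℂ) = L0 i * 0 from (mul_zero _).symm, ← D.orth_x i, Finset.mul_sum]
        exact Finset.sum_congr rfl fun χ _ => by ring
    simp only [key, add_zero]
  rw [sum_four hap.symm hbp.symm hzp.symm hab haz hbz (fun χ => c0 χ * X χ)
    fun i hi => hsupp i (left_ne_zero_of_mul hi), hp.1, a0, b0, z0] at hzero
  have hXp : X (principal G) = 1 := by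
    have h := hX (principal G)
    rw [principal_apply] at h
    exact_mod_cast h.symm
  have ra := hrow a
  have rb := hrow b
  have rz := hrow z
  simp only [rowVal] at ra rb rz
  rw [hXp] at hzero
  have := e1 a
  have := e2 a
  have := e3 a
  have := e4 a
  have := e5 a
  have := e1 b
  have := e2 b
  have := e1 z
  have := e2 z
  have := e5 z
  have := hnk b
  have := hnm a
  omega

end Cen

end CfsgLib.JanOrder
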