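import Mathlib

/-!
# The group `2 × A₅`
-/

set_option autoImplicit false

namespace CfsgLib.JanOrder

/-- The model of the centralizer. -/
abbrev Mdl : Type := Multiplicative (ZMod 2) × alternatingGroup (Fin 5)

/-- The central involution. -/
def τM : Mdl := (Multiplicative.ofAdd 1, 1)

/-- An element of order three. -/
def xM : Mdl := (1, ⟨Equiv.swap 0 1 * Equiv.swap 1 2, by
    rw [Equiv.Perm.mem_alternatingGroup]; decide +kernel⟩)

/-- An involution inverting `xM`. -/
def sM : Mdl := (1, ⟨Equiv.swap 0 1 * Equiv.swap 3 4, by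
    rw [Equiv.Perm.mem_alternatingGroup]; decide +kernel⟩)

/-- An element of order five. -/
def zM : Mdl :=
  (1, ⟨Equiv.swap 0 1 * Equiv.swap 1 2 * Equiv.swap 2 3 * Equiv.swap 3 4, by
    rw [Equiv.Perm.mem_alternatingGroup]; decide +kernel⟩)

/-- The representatives of the classes of elements of odd order. -/
def repM : Fin 4 → Mdl := ![1, xM, zM, zM * zM]

/-- The orders of their centralizers. -/
def repCard : Fin 4 → ℕ := ![120, 6, 10, 10]

/-- The numbers of involutions inverting them. -/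
def repPairs : Fin 4 → ℕ := ![30, 6, 10, 10]

theorem card_mdl : Fintype.card Mdl = 120 := by decide +kernel

theorem center_mdl : ∀ m : Mdl, (∀ n : Mdl, m * n = n * m) → m = 1 ∨ m = τM := by decide +kernel

theorem tau_central : ∀ n : Mdl, τM * n = n * τM := by decide +kernel

theorem sq_of_pow_eight : ∀ m : Mdl, m ^ 8 = 1 → m * m = 1 := by decide +kernel

theorem card_cent : ∀ i, (Finset.univ.filter fun n : Mdl => n * repM i = repM i * n).card =
    repCard i := by decide +kernel

theorem not_conj : ∀ i j, i ≠ j → ∀ n : Mdl, n * repM i ≠ repM j * n := by decide +kernel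

theorem conj_inv : ∀ i, ∃ n : Mdl, n * repM i = (repM i)⁻¹ * n := by decide +kernel

theorem pow_fifteen : ∀ i, repM i ^ 15 = 1 := by decide +kernel

theorem card_pairs : ∀ i, (Finset.univ.filter fun m : Mdl => m * m = 1 ∧ m ≠ 1 ∧
    (m * (τM * repM i)) * (m * (τM * repM i)) = 1 ∧ m * (τM * repM i) ≠ 1).card = repPairs i := by
  decide +kernel

theorem conj_three : ∀ m : Mdl, m ^ 3 = 1 → m ≠ 1 → ∃ n : Mdl, n * xM = m * n := by decide +kernel

theorem cent_x : ∀ n : Mdl, n * xM = xM * n →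
    n ∈ ([1, xM, xM * xM, τM, τM * xM, τM * (xM * xM)] : List Mdl) := by decide +kernel

theorem sM_not_central : ∃ n : Mdl, sM * n ≠ n * sM := by decide +kernel

theorem zM_pow : zM ^ 5 = 1 ∧ zM ≠ 1 ∧ (∃ n : Mdl, n * zM = zM ^ 4 * n) ∧
    (∃ n : Mdl, n * (zM * zM) = zM ^ 3 * n) := by decide +kernel

theorem xM_pow : xM ^ 3 = 1 ∧ xM ≠ 1 ∧ sM * sM = 1 ∧ sM ≠ 1 ∧ sM ≠ τM ∧
    sM * xM * sM = xM⁻¹ := by decide +kernel

end CfsgLib.JanOrder
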