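import Cfsg.Agent.Lib.JanOrder.Numeric

/-!
# Bounds on the signed degrees
-/

set_option autoImplicit false

namespace CfsgLib.JanOrder

/-- The reciprocal of a large integer is small. -/
theorem inv_bound {D : ℤ} {L : ℝ} (hL : 0 < L) (h : L ≤ (D : ℝ) ∨ (D : ℝ) ≤ -L) :
    -(1 / L) ≤ 1 / (D : ℝ) ∧ 1 / (D : ℝ) ≤ 1 / L := by
  have h0 : (0 : ℝ) < 1 / L := one_div_pos.2 hL
  rcases h with h | h
  · refine ⟨le_trans (neg_nonpos.2 h0.le) (one_div_nonneg.2 (hL.le.trans h)), ?_⟩
    exact one_div_le_one_div_of_le hL h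
  · have hneg : (D : ℝ) ≤ 0 := by linarith
    refine ⟨?_, le_trans (one_div_nonpos.2 hneg) h0.le⟩
    have := one_div_le_one_div_of_le hL (show L ≤ -(D : ℝ) by linarith)
    rw [one_div_neg_eq_neg_one_div] at this
    linarith

/-- Below a given square. -/
theorem lt_of_sq {g D K : ℤ} (hg : D * D < g) (hK : 0 ≤ K) (hb : g ≤ K * K) :
    -K < D ∧ D < K := by
  constructor <;> nlinarith

/-- A lower bound for the sum gives an upper bound for the order. -/
theorem le_of_sum {g : ℤ} {S : ℝ} {K : ℤ} (hg : 0 < g) (hS : S * g = 86400) {s : ℝ} (hs : s ≤ S)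
    (hK : (86400 : ℝ) ≤ s * K) (hs0 : 0 < s) : g ≤ K := by
  have h1 : (0 : ℝ) < g := Int.cast_pos.2 hg
  have h2 : s * (g : ℝ) ≤ s * (K : ℝ) := by nlinarith
  exact_mod_cast le_of_mul_le_mul_left h2 hs0

variable {g D1 D2 D3 : ℤ}

theorem heq_of_sum {w1 w2 w3 : ℤ} (n1 : D1 ≠ 0) (n2 : D2 ≠ 0) (n3 : D3 ≠ 0)
    (hT : (1 + (w1 : ℝ) / D1 + (w2 : ℝ) / D2 + (w3 : ℝ) / D3) * g = 86400) :
    g * (D1 * D2 * D3 + w1 * D2 * D3 + w2 * D1 * D3 + w3 * D1 * D2) =
      86400 * (D1 * D2 * D3) := by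
  have e1 : (D1 : ℝ) ≠ 0 := Int.cast_ne_zero.2 n1
  have e2 : (D2 : ℝ) ≠ 0 := Int.cast_ne_zero.2 n2
  have e3 : (D3 : ℝ) ≠ 0 := Int.cast_ne_zero.2 n3
  apply Int.cast_injective (α := ℝ)
  push_cast
  field_simp at hT
  linear_combination hT

theorem searchA (h1 : SignedDeg g (-5) D1) (h2 : SignedDeg g (-5) D2) (h3 : SignedDeg g 1 D3)
    (hsum : 1 + D1 + D2 + D3 = 0) (h840 : g % 840 = 0)
    (hT : (1 + (25 : ℝ) / D1 + 25 / D2 + 1 / D3) * g = 86400) : (D1, D2, g) ∈ listA := by
  wlog hle : |D1| ≤ |D2| generalizing D1 D2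
  · have := this h2 h1 (by omega) (by rw [← hT]; ring) (le_of_lt (not_le.1 hle))
    simp only [listA, List.mem_cons, Prod.mk.injEq, List.not_mem_nil, or_false] at this
    rcases this with h | h | h | h | h | h | h | h | h | h <;>
      obtain ⟨rfl, rfl, rfl⟩ := h <;> simp [listA]
  have hg : 0 < g := lt_of_le_of_lt (mul_self_nonneg D1) h1.sq
  have hgr : (0 : ℝ) < g := Int.cast_pos.2 hg
  have heq := heq_of_sum (w1 := 25) (w2 := 25) (w3 := 1) h1.ne h2.ne h3.ne (by exact_mod_cast hT)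
  have c1 := h1.cong
  have c2 := h2.cong
  have c3 := h3.cong
  set S : ℝ := 1 + (25 : ℝ) / D1 + 25 / D2 + 1 / D3 with hS
  have hSpos : 0 < S := by
    by_contra h
    nlinarith
  have hS' : S = 1 + 25 * (1 / (D1 : ℝ)) + 25 * (1 / (D2 : ℝ)) + 1 / (D3 : ℝ) := by
    rw [hS]; ring
  by_cases hsmall : 150 ≤ |D1|
  · have b3 : 7 ≤ D3 ∨ D3 ≤ -7 := by
      have := h3.ne_val
      omega
    have b1 : 150 ≤ D1 ∨ D1 ≤ -150 := by rcases le_abs.1 hsmall with h | h <;> omega
    have b2 : 150 ≤ D2 ∨ D2 ≤ -150 := by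
      rcases le_abs.1 (hsmall.trans hle) with h | h <;> omega
    have i1 := inv_bound (D := D1) (L := 150) (by norm_num) (by exact_mod_cast b1)
    have i2 := inv_bound (D := D2) (L := 150) (by norm_num) (by exact_mod_cast b2)
    have i3 := inv_bound (D := D3) (L := 7) (by norm_num) (by exact_mod_cast b3)
    have hgb : g ≤ 166000 := le_of_sum hg hT (s := 0.5238)
      (by rw [hS']; linarith [i1.1, i2.1, i3.1]) (by norm_num) (by norm_num)
    have e1 := lt_of_sq h1.sq (K := 408) (by norm_num) (by omega)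
    have e2 := lt_of_sq h2.sq (K := 408) (by norm_num) (by omega)
    exact box_spec boxA₂ h1 h2 h3 hsum h840 heq (by omega) (by push_cast; omega) (by omega) (by omega)
      (by push_cast; omega) (by omega)
  · have b1 : -150 < D1 ∧ D1 < 150 := abs_lt.1 (not_le.1 hsmall)
    by_cases hbig : 1100 ≤ D2 ∨ D2 ≤ -1100
    · exfalso
      have b3 : 949 ≤ D3 ∨ D3 ≤ -949 := by omega
      have i2 := inv_bound (D := D2) (L := 1100) (by norm_num) (by exact_mod_cast hbig)
      have i3 := inv_bound (D := D3) (L := 949) (by norm_num) (by exact_mod_cast b3)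
      have hk : 1 / (D1 : ℝ) ≤ -(1 / 21) ∨ -(1 / 29) ≤ 1 / (D1 : ℝ) := by
        rcases lt_or_gt_of_ne h1.ne with hn | hp
        · by_cases h29 : D1 ≤ -29
          · exact Or.inr (inv_bound (D := D1) (L := 29) (by norm_num)
              (Or.inr (by exact_mod_cast h29))).1
          · left
            have h21 : (-21 : ℝ) ≤ D1 := by exact_mod_cast (show (-21 : ℤ) ≤ D1 by omega)
            have hD : (D1 : ℝ) < 0 := Int.cast_lt_zero.2 hn
            have := one_div_le_one_div_of_neg_of_le hD h21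
            linarith
        · exact Or.inr (le_trans (by norm_num) (one_div_pos.2 (Int.cast_pos.2 hp)).le)
      rcases hk with hk | hk
      · rw [hS'] at hSpos
        linarith [i2.2, i3.2]
      · have hgb : g ≤ 768000 := le_of_sum hg hT (s := 0.1133)
          (by rw [hS']; linarith [i2.1, i3.1]) (by norm_num) (by norm_num)
        have := lt_of_sq h2.sq (K := 900) (by norm_num) (by omega)
        omega
    · exact box_spec boxA₁ h1 h2 h3 hsum h840 heq (by omega) (by push_cast; omega) (by omega) (by omega)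
        (by push_cast; omega) (by omega)

theorem searchB (h1 : SignedDeg g (-5) D1) (h2 : SignedDeg g (-2) D2) (h3 : SignedDeg g (-2) D3)
    (hsum : 1 + D1 + D2 + D3 = 0) (h840 : g % 840 = 0) (hle : |D2| ≤ |D3|)
    (hT : (1 + (25 : ℝ) / D1 + 4 / D2 + 4 / D3) * g = 86400) : (D1, D2, g) ∈ listB := by
  have hg : 0 < g := lt_of_le_of_lt (mul_self_nonneg D1) h1.sq
  have hgr : (0 : ℝ) < g := Int.cast_pos.2 hg
  have heq := heq_of_sum (w1 := 25) (w2 := 4) (w3 := 4) h1.ne h2.ne h3.ne (by exact_mod_cast hT)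
  have c1 := h1.cong
  have c2 := h2.cong
  have c3 := h3.cong
  set S : ℝ := 1 + (25 : ℝ) / D1 + 4 / D2 + 4 / D3 with hS
  have hSpos : 0 < S := by
    by_contra h
    nlinarith
  have hS' : S = 1 + 25 * (1 / (D1 : ℝ)) + 4 * (1 / (D2 : ℝ)) + 4 * (1 / (D3 : ℝ)) := by
    rw [hS]; ring
  by_cases hs2 : 60 ≤ |D2|
  · have b2 : 60 ≤ D2 ∨ D2 ≤ -60 := by rcases le_abs.1 hs2 with h | h <;> omega
    have b3 : 60 ≤ D3 ∨ D3 ≤ -60 := by rcases le_abs.1 (hs2.trans hle) with h | h <;> omega
    by_cases hs1 : 150 ≤ D1 ∨ D1 ≤ -150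
    · have i1 := inv_bound (D := D1) (L := 150) (by norm_num) (by exact_mod_cast hs1)
      have i2 := inv_bound (D := D2) (L := 60) (by norm_num) (by exact_mod_cast b2)
      have i3 := inv_bound (D := D3) (L := 60) (by norm_num) (by exact_mod_cast b3)
      have hgb : g ≤ 123500 := le_of_sum hg hT (s := 0.6999)
        (by rw [hS']; linarith [i1.1, i2.1, i3.1]) (by norm_num) (by norm_num)
      have e1 := lt_of_sq h1.sq (K := 352) (by norm_num) (by omega)
      have e2 := lt_of_sq h2.sq (K := 352) (by norm_num) (by omega)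
      exact box_spec boxB₃ h1 h2 h3 hsum h840 heq (by omega) (by push_cast; omega) (by omega) (by omega)
        (by push_cast; omega) (by omega)
    · by_cases hbig : 1100 ≤ D2 ∨ D2 ≤ -1100
      · exfalso
        have b3' : 949 ≤ D3 ∨ D3 ≤ -949 := by omega
        have i2 := inv_bound (D := D2) (L := 1100) (by norm_num) (by exact_mod_cast hbig)
        have i3 := inv_bound (D := D3) (L := 949) (by norm_num) (by exact_mod_cast b3')
        have hk : 1 / (D1 : ℝ) ≤ -(1 / 21) ∨ -(1 / 29) ≤ 1 / (D1 : ℝ) := by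
          rcases lt_or_gt_of_ne h1.ne with hn | hp
          · by_cases h29 : D1 ≤ -29
            · exact Or.inr (inv_bound (D := D1) (L := 29) (by norm_num)
                (Or.inr (by exact_mod_cast h29))).1
            · left
              have h21 : (-21 : ℝ) ≤ D1 := by exact_mod_cast (show (-21 : ℤ) ≤ D1 by omega)
              have hD : (D1 : ℝ) < 0 := Int.cast_lt_zero.2 hn
              have := one_div_le_one_div_of_neg_of_le hD h21
              linarith
          · exact Or.inr (le_trans (by norm_num) (one_div_pos.2 (Int.cast_pos.2 hp)).le)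
        rcases hk with hk | hk
        · rw [hS'] at hSpos
          linarith [i2.2, i3.2]
        · have hgb : g ≤ 670000 := le_of_sum hg hT (s := 0.13)
            (by rw [hS']; linarith [i2.1, i3.1]) (by norm_num) (by norm_num)
          have := lt_of_sq h2.sq (K := 820) (by norm_num) (by omega)
          omega
      · exact box_spec boxB₁ h1 h2 h3 hsum h840 heq (by omega) (by push_cast; omega) (by omega) (by omega)
          (by push_cast; omega) (by omega)
  · have b2 : -60 < D2 ∧ D2 < 60 := abs_lt.1 (not_le.1 hs2)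
    by_cases hbig : 600 ≤ D1 ∨ D1 ≤ -600
    · exfalso
      have b3 : 539 ≤ D3 ∨ D3 ≤ -539 := by omega
      have b2' : 6 ≤ D2 ∨ D2 ≤ -10 := by
        have := h2.ne_val
        omega
      have i1 := inv_bound (D := D1) (L := 600) (by norm_num) (by exact_mod_cast hbig)
      have i3 := inv_bound (D := D3) (L := 539) (by norm_num) (by exact_mod_cast b3)
      have hk : -(1 / 10) ≤ 1 / (D2 : ℝ) := by
        rcases b2' with h | h
        · exact le_trans (by norm_num) (one_div_pos.2 (Int.cast_pos.2 (by omega : (0 : ℤ) < D2))).le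
        · exact (inv_bound (D := D2) (L := 10) (by norm_num) (Or.inr (by exact_mod_cast h))).1
      have hgb : g ≤ 157500 := le_of_sum hg hT (s := 0.55)
        (by rw [hS']; linarith [i1.1, i3.1]) (by norm_num) (by norm_num)
      have := lt_of_sq h1.sq (K := 400) (by norm_num) (by omega)
      omega
    · exact box_spec boxB₂ h1 h2 h3 hsum h840 heq (by omega) (by push_cast; omega) (by omega) (by omega)
        (by push_cast; omega) (by omega)

theorem searchV (h1 : SignedDeg g (-1) D1) (h2 : SignedDeg g (-9) D1) (h3 : SignedDeg g 1 D3)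
    (hsum : 1 + D1 + D1 + D3 = 0) (h840 : g % 840 = 0)
    (hT : (1 + (1 : ℝ) / D1 + 81 / D1 + 1 / D3) * g = 86400) : False := by
  have hg : 0 < g := lt_of_le_of_lt (mul_self_nonneg D1) h1.sq
  have heq := heq_of_sum (w1 := 1) (w2 := 81) (w3 := 1) h1.ne h1.ne h3.ne (by exact_mod_cast hT)
  have c1 := h1.cong
  by_cases hbig : 400 ≤ D1 ∨ D1 ≤ -400
  · have b3 : 799 ≤ D3 ∨ D3 ≤ -799 := by omega
    have i1 := inv_bound (D := D1) (L := 400) (by norm_num) (by exact_mod_cast hbig)
    have i3 := inv_bound (D := D3) (L := 799) (by norm_num) (by exact_mod_cast b3)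
    have hgb : g ≤ 110000 := le_of_sum hg hT (s := 0.79)
      (by rw [show (1 : ℝ) + 1 / D1 + 81 / D1 + 1 / D3 = 1 + 82 * (1 / (D1 : ℝ)) + 1 / D3 by ring]
          linarith [i1.1, i3.1]) (by norm_num) (by norm_num)
    have := lt_of_sq h1.sq (K := 332) (by norm_num) (by omega)
    omega
  · obtain ⟨i, hi, rfl⟩ : ∃ i : ℕ, i < 101 ∧ D1 = -401 + 8 * (i : ℤ) :=
      ⟨((D1 + 401) / 8).toNat, by omega, by omega⟩
    have hb : box 1 81 1 (-1) (-9) 1 [] (-401 + 8 * (i : ℤ)) (-401 + 8 * (i : ℤ)) 1 1 = true := by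
      have := boxV
      simp only [List.all_eq_true, List.mem_range] at this
      simp [box, this i hi]
    exact List.not_mem_nil (box_spec hb h1 h2 h3 hsum h840 heq le_rfl (by omega) (by omega) le_rfl
      (by omega) (by omega))

/-- The second equation leaves the two orders. -/
def qcand (cX cY wA wB D1 D2 g : ℤ) : Bool :=
  (List.range 1700).all fun i : ℕ =>
    let X : ℤ := (i : ℤ) - 850
    let Y : ℤ := -D1 - D2 - X
    decide (X = 0) || decide (Y = 0) ||
      decide ((wA * D2 + wB * D1) * (X * Y) * g + (cX * Y + cY * X) * (D1 * D2) * g ≠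
        -57600 * (D1 * D2 * (X * Y)))

theorem qcand_spec {cX cY wA wB : ℤ} {X Y : ℤ} (hc : qcand cX cY wA wB D1 D2 g = true)
    (hX : X * X < g) (hgB : g ≤ 700000) (n1 : D1 ≠ 0) (n2 : D2 ≠ 0) (nX : X ≠ 0) (nY : Y ≠ 0)
    (hsum : D1 + D2 + X + Y = 0)
    (hT : ((wA : ℝ) / D1 + (wB : ℝ) / D2 + (cX : ℝ) / X + (cY : ℝ) / Y) * g = -57600) : False := by
  have hb := lt_of_sq hX (K := 850) (by norm_num) (by omega)
  obtain ⟨i, hi, hXi⟩ : ∃ i : ℕ, i < 1700 ∧ X = (i : ℤ) - 850 :=
    ⟨(X + 850).toNat, by omega, by omega⟩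
  simp only [qcand, List.all_eq_true, List.mem_range] at hc
  have h := hc i hi
  rw [← hXi, show -D1 - D2 - X = Y by omega] at h
  simp only [nX, nY, decide_false, Bool.false_or, decide_eq_true_eq] at h
  refine h ?_
  have e1 : (D1 : ℝ) ≠ 0 := Int.cast_ne_zero.2 n1
  have e2 : (D2 : ℝ) ≠ 0 := Int.cast_ne_zero.2 n2
  have e3 : (X : ℝ) ≠ 0 := Int.cast_ne_zero.2 nX
  have e4 : (Y : ℝ) ≠ 0 := Int.cast_ne_zero.2 nY
  apply Int.cast_injective (α := ℝ)
  push_cast
  field_simp at hT
  linear_combination hT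

theorem qA : ([(-45, 35, 68040), (35, -45, 68040), (-29, 35, 121800), (35, -29, 121800),
    (-21, 75, 693000), (75, -21, 693000)] : List (ℤ × ℤ × ℤ)).all
    (fun e => qcand 9 9 25 25 e.1 e.2.1 e.2.2) = true := by decide +kernel

theorem qB : listB.all (fun e => qcand 36 9 25 4 e.1 e.2.1 e.2.2) = true := by decide +kernel

theorem qB' : listB.all (fun e => qcand 36 9 25 4 e.1 (-1 - e.1 - e.2.1) e.2.2) = true := by
  decide +kernel

/-- The main case. -/
theorem caseA {X Y : ℤ} (h1 : SignedDeg g (-5) D1) (h2 : SignedDeg g (-5) D2)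
    (h3 : SignedDeg g 1 D3) (hX : X * X < g) (nX : X ≠ 0) (nY : Y ≠ 0)
    (hsum : 1 + D1 + D2 + D3 = 0) (hsum' : D1 + D2 + X + Y = 0) (h840 : g % 840 = 0)
    (hT : (1 + (25 : ℝ) / D1 + 25 / D2 + 1 / D3) * g = 86400)
    (hT' : ((25 : ℝ) / D1 + 25 / D2 + 9 / X + 9 / Y) * g = -57600) :
    g = 175560 ∨ (D1 = -21 ∧ D2 = 35) ∨ (D1 = 35 ∧ D2 = -21) := by
  have hmem := searchA h1 h2 h3 hsum h840 hT
  by_contra hne
  rw [not_or, not_or] at hne
  have hrest : (D1, D2, g) ∈ ([(-45, 35, 68040), (35, -45, 68040), (-29, 35, 121800),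
      (35, -29, 121800), (-21, 75, 693000), (75, -21, 693000)] : List (ℤ × ℤ × ℤ)) := by
    simp only [listA, List.mem_cons, Prod.mk.injEq, List.not_mem_nil, or_false] at hmem
    rcases hmem with h | h | h | h | h | h | h | h | h | h <;>
      obtain ⟨rfl, rfl, rfl⟩ := h <;> simp at hne ⊢
  have hq := List.all_eq_true.1 qA _ hrest
  have hgB : g ≤ 700000 := by
    simp only [List.mem_cons, Prod.mk.injEq, List.not_mem_nil, or_false] at hrest
    rcases hrest with h | h | h | h | h | h <;> obtain ⟨-, -, rfl⟩ := h <;> norm_num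
  exact qcand_spec hq hX hgB h1.ne h2.ne nX nY hsum' (by exact_mod_cast hT')

/-- The second case is impossible. -/
theorem caseB {X Y : ℤ} (h1 : SignedDeg g (-5) D1) (h2 : SignedDeg g (-2) D2)
    (h3 : SignedDeg g (-2) D3) (hX : X * X < g) (nX : X ≠ 0) (nY : Y ≠ 0)
    (hsum : 1 + D1 + D2 + D3 = 0) (hsum' : D1 + D2 + X + Y = 0) (h840 : g % 840 = 0)
    (hT : (1 + (25 : ℝ) / D1 + 4 / D2 + 4 / D3) * g = 86400)
    (hT' : ((25 : ℝ) / D1 + 4 / D2 + 36 / X + 9 / Y) * g = -57600) : False := by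
  by_cases hle : |D2| ≤ |D3|
  · have hmem := searchB h1 h2 h3 hsum h840 hle hT
    have hq := List.all_eq_true.1 qB _ hmem
    have hgB : g ≤ 700000 := by
      simp only [listB, List.mem_cons, Prod.mk.injEq, List.not_mem_nil, or_false] at hmem
      rcases hmem with h | h | h | h <;> obtain ⟨-, -, rfl⟩ := h <;> norm_num
    exact qcand_spec hq hX hgB h1.ne h2.ne nX nY hsum' (by exact_mod_cast hT')
  · have hmem := searchB h1 h3 h2 (by omega) h840 (le_of_lt (not_le.1 hle))
      (by rw [← hT]; ring)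
    have hq := List.all_eq_true.1 qB' _ hmem
    have hgB : g ≤ 700000 := by
      simp only [listB, List.mem_cons, Prod.mk.injEq, List.not_mem_nil, or_false] at hmem
      rcases hmem with h | h | h | h <;> obtain ⟨-, -, rfl⟩ := h <;> norm_num
    simp only [show -1 - D1 - D3 = D2 by omega] at hq
    exact qcand_spec hq hX hgB h1.ne h2.ne nX nY hsum' (by exact_mod_cast hT')

end CfsgLib.JanOrder
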