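import Mathlib

/-!
# The numerical search behind the order formula for an involution centralizer `2 × A₅`

The signed degrees `D` of the characters meeting the involution section satisfy congruences modulo
eight, a positivity condition and two equations for the sums of their reciprocals.
-/

set_option autoImplicit false

namespace CfsgLib.JanOrder

/-- A signed degree carrying the value `a` at the involution. -/
structure SignedDeg (g a D : ℤ) : Prop where
  ne : D ≠ 0
  ne_val : D ≠ a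
  cong : (D - a) % 8 = 0
  pos : 0 ≤ D * (D + 7 * a)
  sq : D * D < g

/-- The Boolean form of `SignedDeg` without the bound. -/
def goodB (a D : ℤ) : Bool :=
  decide (D ≠ 0) && decide (D ≠ a) && decide ((D - a) % 8 = 0) && decide (0 ≤ D * (D + 7 * a))

theorem SignedDeg.goodB {g a D : ℤ} (h : SignedDeg g a D) : JanOrder.goodB a D = true := by
  simp [JanOrder.goodB, h.ne, h.ne_val, h.cong, h.pos]

/-- One candidate for the pair of small degrees. -/
def cand (w1 w2 w3 a1 a2 a3 : ℤ) (L : List (ℤ × ℤ × ℤ)) (D1 D2 : ℤ) : Bool :=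
  let D3 := -1 - D1 - D2
  let P := D1 * D2 * D3
  let N := P + w1 * D2 * D3 + w2 * D1 * D3 + w3 * D1 * D2
  let g := 86400 * P / N
  !(goodB a1 D1 && goodB a2 D2 && goodB a3 D3 && decide (86400 * P % N = 0) &&
      decide (g % 840 = 0) && decide (D1 * D1 < g) && decide (D2 * D2 < g) &&
      decide (D3 * D3 < g)) || L.contains (D1, D2, g)

/-- All candidates in a box of arithmetic progressions with difference eight. -/
def box (w1 w2 w3 a1 a2 a3 : ℤ) (L : List (ℤ × ℤ × ℤ)) (b1 b2 : ℤ) (n1 n2 : ℕ) : Bool :=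
  (List.range n1).all fun i => (List.range n2).all fun j =>
    cand w1 w2 w3 a1 a2 a3 L (b1 + 8 * (i : ℤ)) (b2 + 8 * (j : ℤ))

theorem box_spec {w1 w2 w3 a1 a2 a3 b1 b2 : ℤ} {n1 n2 : ℕ} {L : List (ℤ × ℤ × ℤ)}
    (hbox : box w1 w2 w3 a1 a2 a3 L b1 b2 n1 n2 = true) {g D1 D2 D3 : ℤ}
    (h1 : SignedDeg g a1 D1) (h2 : SignedDeg g a2 D2) (h3 : SignedDeg g a3 D3)
    (hsum : 1 + D1 + D2 + D3 = 0) (h840 : g % 840 = 0)
    (heq : g * (D1 * D2 * D3 + w1 * D2 * D3 + w2 * D1 * D3 + w3 * D1 * D2) =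
      86400 * (D1 * D2 * D3))
    (hb1 : b1 ≤ D1) (hn1 : D1 < b1 + 8 * (n1 : ℤ)) (hc1 : (D1 - b1) % 8 = 0)
    (hb2 : b2 ≤ D2) (hn2 : D2 < b2 + 8 * (n2 : ℤ)) (hc2 : (D2 - b2) % 8 = 0) :
    (D1, D2, g) ∈ L := by
  obtain ⟨i, hi, rfl⟩ : ∃ i : ℕ, i < n1 ∧ D1 = b1 + 8 * (i : ℤ) :=
    ⟨((D1 - b1) / 8).toNat, by omega, by omega⟩
  obtain ⟨j, hj, rfl⟩ : ∃ j : ℕ, j < n2 ∧ D2 = b2 + 8 * (j : ℤ) :=
    ⟨((D2 - b2) / 8).toNat, by omega, by omega⟩
  obtain rfl : D3 = -1 - (b1 + 8 * (i : ℤ)) - (b2 + 8 * (j : ℤ)) := by omega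
  simp only [box, List.all_eq_true, List.mem_range] at hbox
  have hc := hbox i hi j hj
  set D1 := b1 + 8 * (i : ℤ)
  set D2 := b2 + 8 * (j : ℤ)
  set N := D1 * D2 * (-1 - D1 - D2) + w1 * D2 * (-1 - D1 - D2) + w2 * D1 * (-1 - D1 - D2) +
    w3 * D1 * D2 with hN
  have hP : D1 * D2 * (-1 - D1 - D2) ≠ 0 := mul_ne_zero (mul_ne_zero h1.ne h2.ne) h3.ne
  have hN0 : N ≠ 0 := fun h => hP (by rw [h, mul_zero] at heq; omega)
  have hg : 86400 * (D1 * D2 * (-1 - D1 - D2)) / N = g := by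
    rw [← heq, Int.mul_ediv_cancel _ hN0]
  have hm : 86400 * (D1 * D2 * (-1 - D1 - D2)) % N = 0 := by rw [← heq, Int.mul_emod_left]
  simp only [cand, ← hN, hg, hm, h1.goodB, h2.goodB, h3.goodB, h840, h1.sq, h2.sq, h3.sq,
    decide_true, Bool.and_self, Bool.not_true, Bool.false_or, List.contains_iff_mem] at hc
  exact hc

/-- The candidates of the main case. -/
def listA : List (ℤ × ℤ × ℤ) :=
  [(-133, -77, 175560), (-77, -133, 175560), (-45, 35, 68040), (35, -45, 68040),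
    (-29, 35, 121800), (35, -29, 121800), (-21, 35, 189000), (35, -21, 189000),
    (-21, 75, 693000), (75, -21, 693000)]

/-- The candidates of the second case. -/
def listB : List (ℤ × ℤ × ℤ) :=
  [(-29, 14, 121800), (35, -18, 68040), (99, -210, 68040), (99, 110, 68040)]

theorem boxA₁ : box 25 25 1 (-5) (-5) 1 listA (-157) (-1109) 39 277 = true := by decide +kernel

theorem boxA₂ : box 25 25 1 (-5) (-5) 1 listA (-413) (-413) 104 104 = true := by decide +kernel

theorem boxB₁ : box 25 4 4 (-5) (-2) (-2) listB (-157) (-1106) 39 277 = true := by decide +kernel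

theorem boxB₂ : box 25 4 4 (-5) (-2) (-2) listB (-605) (-66) 152 17 = true := by decide +kernel

theorem boxB₃ : box 25 4 4 (-5) (-2) (-2) listB (-357) (-354) 90 90 = true := by decide +kernel

theorem boxV : (List.range 101).all (fun i : ℕ =>
    cand 1 81 1 (-1) (-9) 1 [] (-401 + 8 * (i : ℤ)) (-401 + 8 * (i : ℤ))) = true := by
  decide +kernel

end CfsgLib.JanOrder
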