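import Cfsg.Prelude.Def_CaseTheorems
import Cfsg.Prelude.Def_SporadicB
import Cfsg.Agent.Lib.JanOrder.Model
import Cfsg.Agent.Lib.Base.Cores
import Cfsg.Agent.Lib.Base.MinimalNormal
import Cfsg.Agent.Lib.EightSolvCent.Aut
import Cfsg.Agent.Lib.Involutions.Isolated
import Cfsg.Agent.Lib.Involutions.ZStar.Main

/-!
# An involution centralizer `2 × A₅`: Sylow subgroup, fusion and the section
-/

set_option autoImplicit false
set_option linter.unusedSectionVars false
set_option linter.style.haveILetI false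

namespace CfsgLib.JanOrder

open Cfsg CfsgLib.Base
open scoped Pointwise

variable {G : Type*} [Group G]

/-- A two-central involution with centralizer `2 × A₅`. -/
structure Cen [Finite G] (t : G) where
  ord : orderOf t = 2
  central : IsTwoCentralInvolution t
  e : Subgroup.centralizer ({t} : Set G) ≃* Mdl

namespace Cen

variable [Finite G] {t : G} (D : Cen t)

/-- An element of the model read in the group. -/
def val (m : Mdl) : G := (D.e.symm m : G)

include D

theorem tt : t * t = 1 := by rw [← pow_two, ← D.ord, pow_orderOf_eq_one]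

theorem ne_one : t ≠ 1 := fun h => by
  have := D.ord
  rw [h, orderOf_one] at this
  norm_num at this

theorem val_mem (m : Mdl) : D.val m ∈ Subgroup.centralizer ({t} : Set G) := (D.e.symm m).2

theorem val_mul (m n : Mdl) : D.val (m * n) = D.val m * D.val n := by
  simp [val]

theorem val_one : D.val 1 = 1 := by simp [val]

theorem val_inv (m : Mdl) : D.val m⁻¹ = (D.val m)⁻¹ := by simp [val]

theorem val_pow (m : Mdl) (k : ℕ) : D.val (m ^ k) = D.val m ^ k := by simp [val]

theorem val_inj {m n : Mdl} (h : D.val m = D.val n) : m = n := D.e.symm.injective (Subtype.ext h)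

theorem val_surj {g : G} (hg : g * t = t * g) : ∃ m, D.val m = g :=
  ⟨D.e ⟨g, Subgroup.mem_centralizer_singleton_iff.2 hg⟩, by simp [val]⟩

theorem commute_val (m : Mdl) : D.val m * t = t * D.val m :=
  Subgroup.mem_centralizer_singleton_iff.1 (D.val_mem m)

theorem val_tau : D.val τM = t := by
  obtain ⟨m, hm⟩ := D.val_surj (g := t) rfl
  rcases center_mdl m (fun n => D.val_inj (by rw [D.val_mul, D.val_mul, hm, D.commute_val])) with
    rfl | rfl
  · rw [D.val_one] at hm
    exact absurd hm.symm D.ne_one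
  · exact hm

theorem card_tCen : Nat.card (Subgroup.centralizer ({t} : Set G)) = 120 := by
  rw [Nat.card_congr D.e.toEquiv, Nat.card_eq_fintype_card, card_mdl]

/-- A Sylow subgroup centralizing the involution has order eight and exponent two. -/
theorem exists_sylow : ∃ S : Sylow 2 G, t ∈ (S : Subgroup G) ∧ Nat.card (S : Subgroup G) = 8 ∧
    IsElementaryAbelian 2 (S : Subgroup G) := by
  haveI : Fact (Nat.Prime 2) := ⟨Nat.prime_two⟩
  obtain ⟨-, S, htS, hS⟩ := D.central
  have hle : (S : Subgroup G) ≤ Subgroup.centralizer ({t} : Set G) := fun s hs =>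
    Subgroup.mem_centralizer_singleton_iff.2 (hS s hs)
  obtain ⟨k, hk⟩ := IsPGroup.iff_card.1 S.2
  have hd : 2 ^ k ∣ 120 := by rw [← hk, ← D.card_tCen]; exact Subgroup.card_dvd_of_le hle
  have h8 : (8 : ℕ) ∣ 2 ^ k := by
    rw [← hk]
    refine S.pow_dvd_card_of_pow_dvd_card (n := 3) ?_
    exact (show 2 ^ 3 ∣ Nat.card (Subgroup.centralizer ({t} : Set G)) by
      rw [D.card_tCen]; norm_num).trans (Subgroup.card_subgroup_dvd_card _)
  have hk3 : k = 3 := by
    have h1 : 2 ^ k ≤ 120 := Nat.le_of_dvd (by norm_num) hd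
    have h2 : k ≤ 6 := by
      by_contra h
      have := Nat.pow_le_pow_right (show 1 ≤ 2 by norm_num) (show 7 ≤ k by omega)
      omega
    interval_cases k <;> omega
  subst hk3
  have hsq : ∀ s : G, s ∈ (S : Subgroup G) → s * s = 1 := by
    intro s hs
    obtain ⟨m, rfl⟩ := D.val_surj (hS s hs)
    have h : D.val (m ^ 8) = D.val 1 := by
      rw [D.val_pow, D.val_one]
      have := pow_card_eq_one' (x := (⟨D.val m, hs⟩ : (S : Subgroup G)))
      rw [hk] at this
      exact congrArg Subtype.val this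
    rw [← D.val_mul, sq_of_pow_eight m (D.val_inj h), D.val_one]
  refine ⟨S, htS, hk, ⟨⟨⟨fun a b => ?_⟩⟩, fun a ha => by rw [sq]; exact hsq a ha⟩⟩
  exact EightSolvCent.eight_comm (fun s => Subtype.ext (hsq s s.2)) a b

/-- All involutions are conjugate, and seven divides the order. -/
theorem fusion [IsSimpleGroup G] : (∀ v : G, orderOf v = 2 → IsConj t v) ∧ 7 ∣ Nat.card G ∧
    ¬ 16 ∣ Nat.card G := by
  classical
  haveI : Fact (Nat.Prime 2) := ⟨Nat.prime_two⟩
  obtain ⟨S, htS, hS8, hS⟩ := D.exists_sylow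
  set P : Subgroup G := (S : Subgroup G) with hP
  haveI : IsMulCommutative P := hS.1
  set A := P.normalizerMonoidHom.range with hA
  have hrel : (Subgroup.centralizer (P : Set G)).relIndex (Subgroup.normalizer (P : Set G)) =
      Nat.card A := by
    rw [hA, ← Subgroup.index_ker, Subgroup.normalizerMonoidHom_ker]
    rfl
  have hPC : P ≤ Subgroup.centralizer (P : Set G) := fun x hx =>
    Subgroup.mem_centralizer_iff.2 fun y hy =>
      congrArg Subtype.val (hS.1.is_comm.comm ⟨y, hy⟩ ⟨x, hx⟩)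
  have hAd : Nat.card A ∣ Nat.card G := by
    rw [← hrel]
    exact ((Dvd.intro _ (Subgroup.relIndex_mul_index
      (Subgroup.centralizer_le_normalizer _))).trans (Subgroup.index_dvd_card _))
  have hodd : Odd (Nat.card A) := by
    rw [← hrel, ← Nat.not_even_iff_odd, even_iff_two_dvd]
    exact fun hd => S.not_dvd_index (hd.trans ((Dvd.intro _ (Subgroup.relIndex_mul_index
      (Subgroup.centralizer_le_normalizer _))).trans (Subgroup.index_dvd_of_le hPC)))
  have hsq : ∀ s : P, s * s = 1 := fun s => Subtype.ext (by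
    have := hS.2 (s : G) s.2
    rw [sq] at this
    exact this)
  have hord : ∀ v : P, v ≠ 1 → orderOf (v : G) = 2 := fun v hv =>
    orderOf_eq_prime (hS.2 (v : G) v.2) fun e => hv (Subtype.ext e)
  have hna : ¬ IsMulCommutative G := fun hab => by
    obtain ⟨m, hm⟩ := sM_not_central
    exact hm (D.val_inj (by rw [D.val_mul, D.val_mul]; exact hab.is_comm.comm _ _))
  have hfix : ∀ v : P, v ≠ 1 → ∃ a : A, a • v ≠ v := by
    intro v hv
    by_contra hno
    push Not at hno
    have hiso : Cfsg.IsIsolatedInvolution (v : G) := by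
      refine CfsgLib.Involutions.isolated_of_sylow S (hord v hv) fun g hg => ?_
      obtain ⟨n, hn, he⟩ := Sylow.conj_eq_normalizer_conj_of_mem S (v : G) g⁻¹ v.2
        (by rwa [inv_inv])
      rw [inv_inv] at he
      rw [he]
      have h := congrArg Subtype.val
        (hno ⟨P.normalizerMonoidHom ⟨n⁻¹, inv_mem hn⟩, ⟨_, rfl⟩⟩)
      have h' : n⁻¹ * (v : G) * n⁻¹⁻¹ = (v : G) := h
      rwa [inv_inv] at h'
    have h2 : 2 ∣ Nat.card G := by
      rw [← hord v hv]; exact orderOf_dvd_natCard _
    have hO : Cfsg.oddCore G = ⊥ := by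
      rcases IsSimpleGroup.eq_bot_or_eq_top_of_normal (Cfsg.oddCore G) inferInstance with e | e
      · exact e
      · exact absurd (CfsgLib.Base.oddCore_eq_top_iff.1 e)
          (Nat.not_odd_iff_even.2 (even_iff_two_dvd.2 h2))
    have hc := CfsgLib.Involutions.ZStar.mem_center_of_oddCore_eq_bot hiso hO
    rcases IsSimpleGroup.eq_bot_or_eq_top_of_normal (Subgroup.center G) inferInstance with e | e
    · rw [e, Subgroup.mem_bot] at hc
      exact hv (Subtype.ext hc)
    · exact hna ⟨⟨fun a b => (Subgroup.mem_center_iff.1 (e ▸ Subgroup.mem_top a) b).symm⟩⟩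
  obtain ⟨htrans, -⟩ := CfsgLib.EightSolvCent.transitive hS8 hsq A hodd hfix
  have ht1 : (⟨t, htS⟩ : P) ≠ 1 := fun h => D.ne_one (congrArg Subtype.val h)
  refine ⟨fun v hv => ?_, ?_, fun h16 => ?_⟩
  · obtain ⟨R, hR⟩ := (IsPGroup.of_card (n := 1)
      (show Nat.card (Subgroup.zpowers v) = 2 ^ 1 by rw [Nat.card_zpowers, hv, pow_one])).exists_le_sylow
    obtain ⟨u, hu⟩ := MulAction.exists_smul_eq G R S
    have hw : u * v * u⁻¹ ∈ P := by
      have h1 : MulAut.conj u • v ∈ MulAut.conj u • (R : Subgroup G) :=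
        Subgroup.smul_mem_pointwise_smul v _ _ (hR (Subgroup.mem_zpowers v))
      rw [← Sylow.coe_subgroup_smul] at h1
      rw [hu] at h1
      exact h1
    have hw1 : (⟨_, hw⟩ : P) ≠ 1 := fun h => by
      have h1 : u * v * u⁻¹ = 1 := congrArg Subtype.val h
      rw [mul_inv_eq_one, mul_eq_left] at h1
      rw [h1, orderOf_one] at hv
      norm_num at hv
    obtain ⟨⟨a, n, rfl⟩, ha⟩ := htrans _ _ ht1 hw1
    refine (isConj_iff.2 ⟨(n : G), ?_⟩).trans (isConj_iff.2 ⟨u⁻¹, show u⁻¹ * (u * v * u⁻¹) * u⁻¹⁻¹ = v by group⟩)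
    exact congrArg Subtype.val ha
  · have h := MulAction.index_stabilizer A (⟨t, htS⟩ : P)
    have horb : MulAction.orbit A (⟨t, htS⟩ : P) = ({1}ᶜ : Set P) := by
      ext w
      constructor
      · rintro ⟨a, rfl⟩ (hw : a • (⟨t, htS⟩ : P) = 1)
        exact ht1 (MulAction.injective a (hw.trans (map_one (a : MulAut P)).symm))
      · intro hw
        obtain ⟨a, ha⟩ := htrans _ w ht1 hw
        exact ⟨a, ha⟩
    rw [horb, Set.ncard_compl, Set.ncard_singleton, hS8] at h
    exact (h ▸ (MulAction.stabilizer A _).index_dvd_card : 8 - 1 ∣ Nat.card A).trans hAd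
  · have := S.pow_dvd_card_of_pow_dvd_card (n := 4) h16
    rw [hS8] at this
    norm_num at this

/-- The order is divisible by `840`. -/
theorem dvd_card [IsSimpleGroup G] : 840 ∣ Nat.card G := by
  have h120 : 120 ∣ Nat.card G := by
    rw [← D.card_tCen]
    exact Subgroup.card_subgroup_dvd_card _
  have h7 := D.fusion.2.1
  exact Nat.Coprime.mul_dvd_of_dvd_of_dvd (by norm_num : Nat.Coprime 7 120) h7 h120

/-- A conjugation between elements of the section comes from the centralizer. -/
theorem exists_of_conj {i j : Fin 4} {u : G}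
    (h : u * (t * D.val (repM i)) * u⁻¹ = t * D.val (repM j)) :
    ∃ n, D.val n = u ∧ n * repM i = repM j * n := by
  have hp : ∀ k, (t * D.val (repM k)) ^ 15 = t := fun k => by
    rw [(show Commute t (D.val (repM k)) from (D.commute_val _).symm).mul_pow, ← D.val_pow,
      pow_fifteen, D.val_one, mul_one, pow_succ, show (14 : ℕ) = 2 * 7 from rfl, pow_mul, pow_two,
      D.tt, one_pow, one_mul]
  have h15 := congrArg (· ^ 15) h
  simp only [conj_pow, hp] at h15
  obtain ⟨n, rfl⟩ := D.val_surj (g := u) (mul_inv_eq_iff_eq_mul.1 h15)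
  refine ⟨n, rfl, D.val_inj (mul_left_cancel (a := t) ?_)⟩
  rw [D.val_mul, D.val_mul, ← mul_assoc, ← mul_assoc, ← D.commute_val n, mul_assoc]
  exact mul_inv_eq_iff_eq_mul.1 h

/-- The centralizers on the section. -/
theorem card_centralizer (i : Fin 4) :
    Nat.card (Subgroup.centralizer ({t * D.val (repM i)} : Set G)) = repCard i := by
  classical
  rw [← card_cent i, ← Fintype.card_subtype, ← Nat.card_eq_fintype_card]
  symm
  refine Nat.card_congr (Equiv.ofBijective (fun n => ⟨D.val n.1,
    Subgroup.mem_centralizer_singleton_iff.2 ?_⟩) ⟨fun a b h => ?_, fun g => ?_⟩)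
  · rw [← mul_assoc, D.commute_val, mul_assoc, mul_assoc, ← D.val_mul, ← D.val_mul, n.2]
  · exact Subtype.ext (D.val_inj (congrArg Subtype.val h :))
  · obtain ⟨n, hn, hn'⟩ := D.exists_of_conj (i := i) (j := i) (u := (g : G))
      (mul_inv_eq_iff_eq_mul.2 (Subgroup.mem_centralizer_singleton_iff.1 g.2))
    exact ⟨⟨n, hn'⟩, Subtype.ext hn⟩

/-- The representatives lie in distinct classes. -/
theorem not_isConj {i j : Fin 4} (h : i ≠ j) :
    ¬ IsConj (t * D.val (repM i)) (t * D.val (repM j)) := by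
  intro hc
  obtain ⟨u, hu⟩ := isConj_iff.1 hc
  obtain ⟨n, -, hn⟩ := D.exists_of_conj hu
  exact not_conj i j h n hn

/-- The representatives are real. -/
theorem isConj_inv (i : Fin 4) :
    IsConj (t * D.val (repM i)) (t * D.val (repM i))⁻¹ := by
  obtain ⟨n, hn⟩ := conj_inv i
  refine isConj_iff.2 ⟨D.val n, ?_⟩
  have hti : t⁻¹ = t := inv_eq_of_mul_eq_one_right D.tt
  rw [mul_inv_rev, hti, mul_inv_eq_iff_eq_mul, ← mul_assoc, D.commute_val, mul_assoc,
    ← D.val_mul, hn, D.val_mul, D.val_inv, ← mul_assoc]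
  congr 1
  rw [← D.val_inv, D.commute_val, D.val_inv]

/-- The pairs of involutions multiplying to a representative. -/
theorem card_pairs' (i : Fin 4) : Nat.card {a : G // orderOf a = 2 ∧
    orderOf (a * (t * D.val (repM i))) = 2} = repPairs i := by
  classical
  have hord : ∀ m : Mdl, orderOf (D.val m) = 2 ↔ m * m = 1 ∧ m ≠ 1 := fun m => by
    rw [orderOf_eq_prime_iff (p := 2) (hp := ⟨Nat.prime_two⟩)]
    constructor
    · rintro ⟨h1, h2⟩
      exact ⟨D.val_inj (by rw [D.val_mul, D.val_one, ← pow_two, h1]),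
        fun e => h2 (by rw [e, D.val_one])⟩
    · rintro ⟨h1, h2⟩
      exact ⟨by rw [pow_two, ← D.val_mul, h1, D.val_one],
        fun e => h2 (D.val_inj (e.trans D.val_one.symm))⟩
  have hmul : ∀ m : Mdl, D.val m * (t * D.val (repM i)) = D.val (m * (τM * repM i)) := fun m => by
    rw [D.val_mul, D.val_mul, D.val_tau]
  rw [← card_pairs i, ← Fintype.card_subtype, ← Nat.card_eq_fintype_card]
  symm
  refine Nat.card_congr (Equiv.ofBijective (fun m => ⟨D.val m.1, (hord _).2 ⟨m.2.1, m.2.2.1⟩,
    by rw [hmul]; exact (hord _).2 ⟨m.2.2.2.1, m.2.2.2.2⟩⟩) ⟨fun a b h => ?_, fun g => ?_⟩)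
  · exact Subtype.ext (D.val_inj (congrArg Subtype.val h :))
  · obtain ⟨a, ha, hay⟩ := g
    set y := t * D.val (repM i) with hy
    have haa : a * a = 1 := by rw [← pow_two, ← ha, pow_orderOf_eq_one]
    have hay2 : a * y * (a * y) = 1 := by rw [← pow_two, ← hay, pow_orderOf_eq_one]
    have hinv : a * y * a⁻¹ = y⁻¹ := by
      rw [inv_eq_of_mul_eq_one_right haa]
      exact eq_inv_of_mul_eq_one_left (by simpa [mul_assoc] using hay2)
    have hp : y ^ 15 = t := by
      rw [hy, (show Commute t (D.val (repM i)) from (D.commute_val _).symm).mul_pow, ← D.val_pow,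
        pow_fifteen, D.val_one, mul_one, pow_succ, show (14 : ℕ) = 2 * 7 from rfl, pow_mul,
        pow_two, D.tt, one_pow, one_mul]
    have h15 := congrArg (· ^ 15) hinv
    simp only [conj_pow, inv_pow, hp, inv_eq_of_mul_eq_one_right D.tt] at h15
    obtain ⟨m, rfl⟩ := D.val_surj (g := a) (mul_inv_eq_iff_eq_mul.1 h15)
    rw [hmul] at hay
    exact ⟨⟨m, ((hord _).1 ha).1, ((hord _).1 ha).2, ((hord _).1 hay).1, ((hord _).1 hay).2⟩, rfl⟩

end Cen

end CfsgLib.JanOrder
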